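/-
The classes modulo twice the lattice fixed by the permutation of order three: a space of dimension twelve,
numbered by the vectors of the six-dimensional unitary space over four elements.
-/
import Cfsg.Agent.Lib.MonsterQ.Three.Data
import Cfsg.Agent.Lib.MonsterQ.Seven.Fixed
import Cfsg.Agent.Lib.Fi24Q.Defs

set_option autoImplicit false
set_option maxRecDepth 100000

namespace CfsgLib.MonsterQ.Three

open Cfsg CfsgGolay CfsgLeech CfsgLeech.Models CfsgCoTwoOut CfsgLib.G24
open CfsgLib.SUSixSub (cjK beqK)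
open CfsgLib.MonsterQ.Seven (Cg_add Cg_double ip ip_comm ip_add ip_add_right ip_zero ip_cg ip_neg)
open scoped Pointwise

attribute [local irreducible] codeL octadL dodecadL slpCodes

/-! ### The numbers of the vectors -/

theorem xor_base (a b x y : ℕ) (ha : a < 4) (hb : b < 4) :
    (a + 4 * x) ^^^ (b + 4 * y) = (a ^^^ b) + 4 * (x ^^^ y) := by
  have hl : a ^^^ b < 4 := Nat.xor_lt_two_pow (n := 2) ha hb
  have h1 : ((a + 4 * x) ^^^ (b + 4 * y)) % 2 ^ 2 = a ^^^ b := by
    rw [Nat.xor_mod_two_pow]; congr 1 <;> omega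
  have h2 : ((a + 4 * x) ^^^ (b + 4 * y)) >>> 2 = x ^^^ y := by
    rw [Nat.shiftRight_xor_distrib, Nat.shiftRight_eq_div_pow, Nat.shiftRight_eq_div_pow]; congr 1 <;> omega
  rw [Nat.shiftRight_eq_div_pow] at h2
  norm_num at h1 h2 ⊢
  omega

theorem digK_add : ∀ a b : K, Fi24Q.digK (a + b) = Fi24Q.digK a ^^^ Fi24Q.digK b := by decide

theorem cdV_add (u v : Fi24Q.V) : Fi24Q.cdV (u + v) = Fi24Q.cdV u ^^^ Fi24Q.cdV v := by
  have h := Fi24Q.digK_lt
  simp only [Fi24Q.cdV, Pi.add_apply, digK_add]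
  rw [xor_base _ _ _ _ (h _) (h _), xor_base _ _ _ _ (h _) (h _), xor_base _ _ _ _ (h _) (h _),
    xor_base _ _ _ _ (h _) (h _), xor_base _ _ _ _ (h _) (h _)]

/-! ### The basis -/

/-- The vectors of the basis. -/
def ev' (j : ℕ) : ↥leechLattice := vecL (eC.getD j 0)

/-- The sum of the chosen vectors of the basis. -/
def sub (m : ℕ) : ↥leechLattice := ((List.range 12).map fun j => cond (m.testBit j) (ev' j) 0).sum

/-- The same, as a function. -/
def subF (m : ℕ) : GolayPt → ℤ := fun i =>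
  ((List.range 12).map fun j => cond (m.testBit j) (vecN (eC.getD j 0) i) 0).sum

/-- The class of a vector of the space. -/
def sb (v : Fi24Q.V) : ↥leechLattice := sub (Fi24Q.cdV v)

theorem eC_lat : ((List.range 12).all fun j => inLatB (vecN (eC.getD j 0))) = true := by decide +kernel

theorem sub_coe (m : ℕ) : ((sub m : ↥leechLattice) : GolayPt → ℤ) = subF m := by
  funext i
  have h : ∀ L : List ℕ, (∀ j ∈ L, inLatB (vecN (eC.getD j 0)) = true) →
      ((((L.map fun j => cond (m.testBit j) (ev' j) 0).sum : ↥leechLattice)) : GolayPt → ℤ) i =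
        (L.map fun j => cond (m.testBit j) (vecN (eC.getD j 0) i) 0).sum := by
    intro L
    induction L with
    | nil => intro _; rfl
    | cons a L ih =>
      intro hL
      simp only [List.map_cons, List.sum_cons, AddSubgroup.coe_add, Pi.add_apply]
      rw [ih fun j hj => hL j (List.mem_cons_of_mem _ hj)]
      cases m.testBit a
      · rfl
      · show ((ev' a : ↥leechLattice) : GolayPt → ℤ) i + _ = _
        rw [ev', vecL_coe (hL a List.mem_cons_self)]
        rfl
  exact h _ fun j hj => List.all_eq_true.mp eC_lat j hj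

theorem sub_add (m n : ℕ) : Cg (sub m + sub n) (sub (m ^^^ n)) := by
  have h : ∀ L : List ℕ, Cg ((L.map fun j => cond (m.testBit j) (ev' j) 0).sum +
      (L.map fun j => cond (n.testBit j) (ev' j) 0).sum)
      (L.map fun j => cond ((m ^^^ n).testBit j) (ev' j) 0).sum := by
    intro L
    induction L with
    | nil => simpa using Cg.refl' (0 : ↥leechLattice)
    | cons a L ih =>
      simp only [List.map_cons, List.sum_cons]
      rw [add_add_add_comm]
      refine Cg_add ?_ ih
      rw [Nat.testBit_xor]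
      cases m.testBit a <;> cases n.testBit a <;> simp [Cg.refl', Cg_double]
  exact h _

theorem sb_add (u v : Fi24Q.V) : Cg (sb (u + v)) (sb u + sb v) := by
  rw [sb, cdV_add]; exact (sub_add _ _).symm'

theorem sub_zero' : sub 0 = 0 :=
  List.sum_eq_zero fun x hx => by
    obtain ⟨j, -, rfl⟩ := List.mem_map.mp hx
    simp

theorem sb_zero : sb 0 = 0 := sub_zero'

/-! ### The forms -/

/-- An entry of the Gram matrix modulo two. -/
def gB (i j : ℕ) : Bool := decide ((dN (eC.getD i 0) (eC.getD j 0) / 8) % 2 = 1)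

/-- The Gram matrix, in pairs. -/
def gP (i j : ℕ) : Bool := decide (i ^^^ 1 = j)

/-- The parity of the inner product, from the table. -/
def parL : List ℕ → ℕ → ℕ → Bool
  | [], _, _ => false
  | i :: L, m, j => (m.testBit i && gP i j) ^^ parL L m j

/-- The parity of the norm, from the table. -/
def quadL : List ℕ → ℕ → Bool
  | [], _ => false
  | i :: L, m => bif m.testBit i then !(quadL L m ^^ parL L m i) else quadL L m

/-- The value of a bit. -/
def bZ (b : Bool) : ZMod 2 := bif b then 1 else 0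

theorem bZ_xor : ∀ a b : Bool, bZ (a ^^ b) = bZ a + bZ b := by decide

theorem gP_checked : ((List.range 12).all fun i => (List.range 12).all fun j => gB i j == gP i j) = true := by
  decide +kernel

theorem ev_coe {j : ℕ} (hj : j < 12) : ((ev' j : ↥leechLattice) : GolayPt → ℤ) = vecN (eC.getD j 0) := by
  rw [ev', vecL_coe (List.all_eq_true.mp eC_lat j (List.mem_range.mpr hj))]

theorem ip_ev {i j : ℕ} (hi : i < 12) (hj : j < 12) : ip (ev' i) (ev' j) = bZ (gP i j) := by
  have h := List.all_eq_true.mp (List.all_eq_true.mp gP_checked i (List.mem_range.mpr hi)) j (List.mem_range.mpr hj)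
  rw [beq_iff_eq] at h
  rw [← h, ip, ev_coe hi, ev_coe hj, dN_eq, gB, ← ZMod.intCast_mod _ 2, show ((2 : ℕ) : ℤ) = 2 from rfl]
  generalize dN (eC.getD i 0) (eC.getD j 0) / 8 = d
  rcases Int.emod_two_eq_zero_or_one d with e | e <;> simp [e, bZ]

theorem ip_list {L : List ℕ} (hL : ∀ i ∈ L, i < 12) (m : ℕ) {j : ℕ} (hj : j < 12) :
    ip (L.map fun i => cond (m.testBit i) (ev' i) 0).sum (ev' j) = bZ (parL L m j) := by
  induction L with
  | nil => exact ip_zero _
  | cons a L ih =>
    rw [List.map_cons, List.sum_cons, ip_add, ih fun i hi => hL i (List.mem_cons_of_mem _ hi), parL, bZ_xor]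
    congr 1
    cases m.testBit a
    · exact ip_zero _
    · rw [Bool.true_and]; exact ip_ev (hL a List.mem_cons_self) hj

theorem ip_sub (m : ℕ) {j : ℕ} (hj : j < 12) : ip (sub m) (ev' j) = bZ (parL (List.range 12) m j) :=
  ip_list (fun _ hi => List.mem_range.mp hi) m hj

/-- The parity of the norm. -/
def hh (x : ↥leechLattice) : ZMod 2 := ((sqNorm (x : GolayPt → ℤ) / 16 : ℤ) : ZMod 2)

theorem hh_add (a b : ↥leechLattice) : hh (a + b) = hh a + hh b + ip a b := by
  have h3 := (sqNorm_sub_add (a : GolayPt → ℤ) (b : GolayPt → ℤ)).2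
  rw [← AddSubgroup.coe_add] at h3
  have h16a := sqNorm_dvd (mem_leech.mp a.2)
  have h16b := sqNorm_dvd (mem_leech.mp b.2)
  have h8 := dot_dvd a b
  have e : sqNorm ((a + b : ↥leechLattice) : GolayPt → ℤ) / 16 = sqNorm (a : GolayPt → ℤ) / 16 +
      sqNorm (b : GolayPt → ℤ) / 16 + dotInt (a : GolayPt → ℤ) (b : GolayPt → ℤ) / 8 := by omega
  rw [hh, e, Int.cast_add, Int.cast_add]
  rfl

theorem ip_self (a : ↥leechLattice) : ip a a = 0 := by
  have e : dotInt (a : GolayPt → ℤ) (a : GolayPt → ℤ) = sqNorm (a : GolayPt → ℤ) :=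
    Finset.sum_congr rfl fun i _ => (sq _).symm
  have h16 := sqNorm_dvd (mem_leech.mp a.2)
  rw [ip, e, ZMod.intCast_zmod_eq_zero_iff_dvd]
  norm_num
  omega

theorem hh_cg {a b : ↥leechLattice} (h : Cg a b) : hh a = hh b := by
  obtain ⟨w, hw⟩ := h
  rw [sub_eq_iff_eq_add.mp hw, hh_add, hh_add, ip_self, ip_add, (show ∀ t : ZMod 2, t + t = 0 by decide) (ip w b),
    (show ∀ t : ZMod 2, t + t = 0 by decide) (hh w)]
  simp

theorem hh_zero : hh 0 = 0 := by simp [hh, sqNorm]

theorem diag_checked : ((List.range 12).all fun j => decide ((dN (eC.getD j 0) (eC.getD j 0) / 16) % 2 = 1)) = true := by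
  decide +kernel

theorem hh_ev {j : ℕ} (hj : j < 12) : hh (ev' j) = 1 := by
  have h := List.all_eq_true.mp diag_checked j (List.mem_range.mpr hj)
  rw [decide_eq_true_eq] at h
  rw [hh, ev_coe hj, nN_eq, ← ZMod.intCast_mod _ 2, show ((2 : ℕ) : ℤ) = 2 from rfl, h, Int.cast_one]

theorem hh_list {L : List ℕ} (hL : ∀ i ∈ L, i < 12) (m : ℕ) :
    hh (L.map fun i => cond (m.testBit i) (ev' i) 0).sum = bZ (quadL L m) := by
  induction L with
  | nil => exact hh_zero
  | cons a L ih =>
    have hL' : ∀ i ∈ L, i < 12 := fun i hi => hL i (List.mem_cons_of_mem _ hi)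
    rw [List.map_cons, List.sum_cons, hh_add, ih hL', quadL]
    cases m.testBit a
    · simp only [cond_false]; rw [hh_zero, ip_zero, zero_add, add_zero]
    · simp only [cond_true]
      rw [hh_ev (hL a List.mem_cons_self), ip_comm, ip_list hL' m (hL a List.mem_cons_self)]
      generalize quadL L m = x; generalize parL L m a = y
      revert x y; decide

theorem hh_sub (m : ℕ) : hh (sub m) = bZ (quadL (List.range 12) m) :=
  hh_list (fun _ hi => List.mem_range.mp hi) m

/-- The parity of the norm, by pairs of bits. -/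
def quadP (m : ℕ) : Bool :=
  [0, 2, 4, 6, 8, 10].foldr (fun i acc => (m.testBit i || m.testBit (i + 1)) ^^ acc) false

theorem range12 : List.range 12 = [0, 1, 2, 3, 4, 5, 6, 7, 8, 9, 10, 11] := rfl

theorem parL_eq (m : ℕ) : ∀ j < 12, parL (List.range 12) m j = m.testBit (j ^^^ 1) := by
  intro j hj
  rw [range12]
  interval_cases j <;> simp (config := {decide := true}) [parL, gP]

theorem quad_pair (m i : ℕ) (L : List ℕ) (hg : gP (i + 1) i = true) (h0 : parL L m i = false)
    (h1 : parL L m (i + 1) = false) :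
    quadL (i :: (i + 1) :: L) m = ((m.testBit i || m.testBit (i + 1)) ^^ quadL L m) := by
  simp only [quadL, parL, hg, h0, h1]
  cases m.testBit i <;> cases m.testBit (i + 1) <;> cases quadL L m <;> rfl

theorem quadL_eq (m : ℕ) : quadL (List.range 12) m = quadP m := by
  rw [range12, quad_pair m 0, quad_pair m 2, quad_pair m 4, quad_pair m 6, quad_pair m 8, quad_pair m 10]
  · rfl
  all_goals simp (config := {decide := true}) [parL, gP]

theorem quad_part (k : ℕ) (hk : k < 8) : ((List.range' (512 * k) 512).all fun n =>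
    beqK (Fi24Q.qN n) .o == !quadP n) = true := by
  interval_cases k <;> decide +kernel

theorem quad_checked {n : ℕ} (hn : n < 4096) : (beqK (Fi24Q.qN n) .o == !quadL (List.range 12) n) = true := by
  rw [quadL_eq]
  exact List.all_eq_true.mp (quad_part (n / 512) (by omega)) n (List.mem_range'_1.mpr (by omega))

theorem sub_ip {m : ℕ} (hm : m < 4096) (h0 : m ≠ 0) : ∃ j < 12, ip (sub m) (ev' j) = 1 := by
  obtain ⟨i, hi⟩ : ∃ i, m.testBit i = true := by
    by_contra h
    push Not at h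
    exact h0 (Nat.eq_of_testBit_eq fun i => by rw [Nat.zero_testBit]; simpa using h i)
  have hi12 : i < 12 := by
    by_contra hb
    have h := Nat.testBit_lt_two_pow (hm.trans_le (show 4096 ≤ 2 ^ i from
      (show 4096 = 2 ^ 12 by norm_num).le.trans (Nat.pow_le_pow_right (by norm_num) (by omega))))
    rw [h] at hi
    exact Bool.false_ne_true hi
  have hj : i ^^^ 1 < 12 := by interval_cases i <;> decide
  refine ⟨i ^^^ 1, hj, ?_⟩
  rw [ip_sub m hj, parL_eq m _ hj, Nat.xor_assoc, Nat.xor_self, Nat.xor_zero, hi]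
  rfl

theorem sub_inj {m n : ℕ} (hm : m < 4096) (hn : n < 4096) (h : Cg (sub m) (sub n)) : m = n := by
  by_contra hne
  have h0 : m ^^^ n ≠ 0 := fun e => hne (by
    have := congrArg (· ^^^ n) e
    simpa [Nat.xor_assoc] using this)
  obtain ⟨j, -, hj⟩ := sub_ip (Nat.xor_lt_two_pow (n := 12) hm hn) h0
  rw [← ip_cg (sub_add m n), ip_add, ip_cg h, (show ∀ a : ZMod 2, a + a = 0 by decide)] at hj
  exact zero_ne_one hj

theorem sb_inj {u v : Fi24Q.V} (h : Cg (sb u) (sb v)) : u = v :=
  Fi24Q.cdV_inj (sub_inj (Fi24Q.cdV_lt u) (Fi24Q.cdV_lt v) h)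

theorem ev_sb {j : ℕ} (hj : j < 12) : ∃ v : Fi24Q.V, sb v = ev' j := by
  refine ⟨Fi24Q.vecN (2 ^ j), ?_⟩
  rw [sb, Fi24Q.cdV_vecN ((Nat.pow_lt_pow_right (by norm_num) hj).trans_le (by norm_num))]
  interval_cases j <;> simp [sub, List.range_succ, Nat.testBit, Nat.shiftRight_eq_div_pow]

theorem hh_sb (v : Fi24Q.V) : hh (sb v) = 0 ↔ Fi24Q.qN (Fi24Q.cdV v) = .o := by
  have h := quad_checked (Fi24Q.cdV_lt v)
  rw [beq_iff_eq] at h
  rw [sb, hh_sub]
  cases hq : quadL (List.range 12) (Fi24Q.cdV v)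
  · rw [hq] at h; exact iff_of_true rfl (SUSixSub.beqK_eq _ _ h)
  · rw [hq] at h
    refine iff_of_false (by decide) fun e => ?_
    rw [e] at h
    exact absurd h (by decide)

/-! ### Fixed classes -/

/-- The permutation of order three. -/
noncomputable def p3 : ↥Co0 := permHom ⟨r3A, mem_r3A⟩

theorem repr_r3 : Repr e3A r3A := by rw [r3A]; exact (rep_spec rep_facts.2.2.1).1

theorem r3_cube : r3A ^ 3 = 1 :=
  (congrArg (r3A ^ ·) order_3A).symm.trans (pow_orderOf_eq_one r3A)

attribute [local irreducible] r3A e3A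

theorem p3_eq : ∃ τ : ↥M24, τ.1 = r3A ∧ p3 = permHom τ := ⟨⟨r3A, mem_r3A⟩, rfl, rfl⟩

theorem p3_cube : p3 ^ 3 = 1 := by
  obtain ⟨τ, hτ, hp⟩ := p3_eq
  have h : τ ^ 3 = 1 := Subtype.ext (by rw [SubgroupClass.coe_pow, hτ, r3_cube]; rfl)
  rw [hp, ← map_pow, h, map_one]

theorem p3_apply (v : ↥leechLattice) (i : GolayPt) :
    ((p3 • v : ↥leechLattice) : GolayPt → ℤ) (r3A i) = (v : GolayPt → ℤ) i := by
  obtain ⟨τ, hτ, hp⟩ := p3_eq
  exact Seven.perm_apply' τ r3A hτ p3 hp v i

/-- The average. -/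
noncomputable def Nv (x : ↥leechLattice) : ↥leechLattice := x + p3 • x + p3 • (p3 • x)

theorem Nv_add (x y : ↥leechLattice) : Nv (x + y) = Nv x + Nv y := by simp only [Nv, aut_add]; abel

theorem Nv_coe_aux (r : Equiv.Perm GolayPt) (g : ↥Co0) (h3 : r ^ 3 = 1)
    (hg : ∀ (v : ↥leechLattice) (i : GolayPt), ((g • v : ↥leechLattice) : GolayPt → ℤ) (r i) = (v : GolayPt → ℤ) i)
    (x : ↥leechLattice) (i : GolayPt) :
    ((x + g • x + g • (g • x) : ↥leechLattice) : GolayPt → ℤ) i =
      (x : GolayPt → ℤ) i + (x : GolayPt → ℤ) (r (r i)) + (x : GolayPt → ℤ) (r i) := by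
  have e : r (r (r i)) = i := by
    rw [← Equiv.Perm.mul_apply, ← Equiv.Perm.mul_apply, ← pow_two, ← pow_succ, h3, Equiv.Perm.one_apply]
  have h1 : ∀ v : ↥leechLattice, ((g • v : ↥leechLattice) : GolayPt → ℤ) i = (v : GolayPt → ℤ) (r (r i)) := fun v => by
    conv_lhs => rw [← e]
    exact hg v _
  rw [AddSubgroup.coe_add, AddSubgroup.coe_add, Pi.add_apply, Pi.add_apply, h1 x, h1 (g • x), hg x (r i)]

theorem Nv_coe (x : ↥leechLattice) (i : GolayPt) :
    (Nv x : GolayPt → ℤ) i = (x : GolayPt → ℤ) i + (x : GolayPt → ℤ) (r3A (r3A i)) + (x : GolayPt → ℤ) (r3A i) :=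
  Nv_coe_aux r3A p3 r3_cube p3_apply x i

/-- The average of a function. -/
def NF (f : GolayPt → ℤ) : GolayPt → ℤ := fun i =>
  f i + f (pt (papp e3A (papp e3A (idx i)))) + f (pt (papp e3A (idx i)))

/-- The generators of the lattice. -/
def glF : List (GolayPt → ℤ) :=
  od (-1) ∅ {none} :: (sysBasis.map fun e a => 2 * chi (toSet e) a) ++
    ((List.range 24).map fun k a => 4 * chi {pt k} a - 4 * chi {none} a) ++ [fun a => 8 * chi {none} a]

/-- The halved differences as functions. -/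
def wF (k : ℕ) : GolayPt → ℤ := fun i => (gW.getD k []).getD (idx i) 0

theorem glF_checked : ((List.range 38).all fun k => inLatB (glF.getD k 0) && inLatB (wF k) &&
    ((List.range 24).all fun i => decide (NF (glF.getD k 0) (pt i) - subF (gM.getD k 0) (pt i) = 2 * wF k (pt i))) &&
    Nat.blt (gM.getD k 0) 4096) = true := by
  decide +kernel

/-- The classes spanned by the basis. -/
def P : AddSubgroup ↥leechLattice where
  carrier := {x | ∃ v, Cg x (sb v)}
  zero_mem' := ⟨0, by rw [sb_zero]; exact Cg.refl' 0⟩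
  add_mem' := by
    rintro a b ⟨u, hu⟩ ⟨v, hv⟩
    exact ⟨u + v, (Cg_add hu hv).trans' (sb_add u v).symm'⟩
  neg_mem' := by
    rintro a ⟨v, hv⟩
    exact ⟨v, (Cg.neg_self a).trans' hv⟩

theorem mem_P {x : ↥leechLattice} : x ∈ P ↔ ∃ v, Cg x (sb v) := Iff.rfl

theorem P_cg {a b : ↥leechLattice} (h : Cg a b) (hb : b ∈ P) : a ∈ P := by
  obtain ⟨m, hm⟩ := hb
  exact ⟨m, h.trans' hm⟩

theorem sb_mem_P (v : Fi24Q.V) : sb v ∈ P := ⟨v, Cg.refl' _⟩

theorem Nv_mem (x : ↥leechLattice) : Nv x ∈ P := by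
  let S : AddSubgroup (GolayPt → ℤ) :=
    { carrier := {f | ∃ v : ↥leechLattice, (v : GolayPt → ℤ) = f ∧ Nv v ∈ P}
      zero_mem' := ⟨0, rfl, by simp [Nv, show p3 • (0 : ↥leechLattice) = 0 from map_zero (autHom p3), zero_mem]⟩
      add_mem' := by
        rintro a b ⟨u, rfl, hu⟩ ⟨w, rfl, hw⟩
        exact ⟨u + w, rfl, by rw [Nv_add]; exact add_mem hu hw⟩
      neg_mem' := by
        rintro a ⟨u, rfl, hu⟩
        refine ⟨-u, rfl, ?_⟩
        rw [show Nv (-u) = -Nv u by simp [Nv, aut_neg]; abel]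
        exact neg_mem hu }
  have hg : ∀ k < 38, glF.getD k 0 ∈ S := fun k hk => by
    have h := List.all_eq_true.mp glF_checked k (List.mem_range.mpr hk)
    simp only [Bool.and_eq_true, Nat.blt_eq] at h
    obtain ⟨⟨⟨hl, hw⟩, hd⟩, hlt⟩ := h
    refine ⟨⟨_, inLatB_sound hl⟩, rfl, ⟨Fi24Q.vecN (gM.getD k 0), ⟨⟨_, inLatB_sound hw⟩, Subtype.ext (funext fun i => ?_)⟩⟩⟩
    rw [sb, Fi24Q.cdV_vecN hlt]
    have hi := List.all_eq_true.mp hd (idx i) (List.mem_range.mpr (idx_lt i))
    rw [decide_eq_true_eq, pt_idx] at hi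
    simp only [AddSubgroup.coe_sub, AddSubgroup.coe_add, Pi.sub_apply, Pi.add_apply, sub_coe, Nv_coe]
    rw [← two_mul, ← hi, NF]
    have e1 := repr_r3.apply_pt (idx_lt i)
    rw [pt_idx] at e1
    have e2 : r3A (r3A i) = pt (papp e3A (papp e3A (idx i))) := by
      rw [e1, repr_r3.apply_pt]
      have := idx_lt (r3A i)
      rwa [repr_r3 i] at this
    rw [e2, e1]
  have hlist : ∀ f ∈ glF, f ∈ S := fun f hf => by
    obtain ⟨k, hk, rfl⟩ := List.getElem_of_mem hf
    have := hg k (by simpa [glF, sysBasis] using hk)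
    rwa [List.getD_eq_getElem _ _ hk] at this
  obtain ⟨v, hv, h⟩ := leech_induction S (hlist _ List.mem_cons_self)
    (fun e he => hlist _ (List.mem_cons_of_mem _ (List.mem_append_left _ (List.mem_append_left _
      (List.mem_map.mpr ⟨e, he, rfl⟩)))))
    (fun i => hlist _ (List.mem_cons_of_mem _ (List.mem_append_left _ (List.mem_append_right _
      (List.mem_map.mpr ⟨idx i, List.mem_range.mpr (idx_lt i), by rw [pt_idx]⟩)))))
    (hlist _ (List.mem_cons_of_mem _ (List.mem_append_right _ (List.mem_singleton.mpr rfl))))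
    x.2
  rwa [Subtype.ext hv] at h

/-- Classes fixed by the permutation lie in the span. -/
theorem class_mem {x : ↥leechLattice} (hx : Cg (p3 • x) x) : x ∈ P := by
  refine P_cg ?_ (Nv_mem x)
  refine Cg.symm' ?_
  have h2 : Cg (p3 • (p3 • x)) x := (Cg.map' p3 hx).trans' hx
  refine ((Cg_add (Cg_add (Cg.refl' x) hx) h2)).trans' ⟨x, ?_⟩
  abel

end CfsgLib.MonsterQ.Three
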