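/-
The centraliser in the code's group of the permutation of order three with six fixed points, the code
words it fixes, and a subgroup of order 27 with centre generated by it.
-/
import Cfsg.Agent.Lib.MonsterQ.Three.Data
import Cfsg.Agent.Lib.Golay.ElemCent
import Cfsg.Agent.Lib.Golay.Six
import Cfsg.Agent.Lib.Leech.Zeta

set_option autoImplicit false
set_option maxRecDepth 100000

namespace CfsgLib.MonsterQ.Three

open Cfsg CfsgGolay
open CfsgLeech (CW CW_symmDiff)
open scoped Pointwise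

attribute [local irreducible] codeL octadL dodecadL slpCodes

theorem repr3 : Repr e3A r3A := by rw [r3A]; exact (rep_spec rep_facts.2.2.1).1

attribute [local irreducible] r3A

theorem cube3 : r3A ^ 3 = 1 :=
  (congrArg (r3A ^ ·) order_3A).symm.trans (pow_orderOf_eq_one r3A)

/-- A coded member of the code's group. -/
theorem exists_code {c : ℕ} (h : (permOK c && gensKept c) = true) : ∃ g ∈ M24, Repr c g := by
  rw [Bool.and_eq_true] at h
  obtain ⟨h1, h2⟩ := rep_spec h
  exact ⟨_, h2, h1⟩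

theorem codes_ok : (permOK sA && gensKept sA) = true ∧ (permOK sB && gensKept sB) = true ∧
    (permOK sInv && gensKept sInv) = true ∧ Nat.beq (pcomp sInv e3A) (pcomp (ppow e3A 2) sInv) = true ∧
    Nat.beq (pcomp sInv e3A) (pcomp e3A sInv) = false ∧
    ([0, 1, 2, 12].all fun i => Nat.beq (papp sInv i) i) = true ∧
    Nat.beq (papp sInv 22) 23 = true ∧ Nat.beq (papp sInv 23) 22 = true ∧
    pcomp sInv e3A < 2 ^ 120 ∧ pcomp e3A sInv < 2 ^ 120 := by decide +kernel

/-- A permutation inverting the one of order three. -/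
theorem exists_inverter : ∃ g ∈ M24, g * r3A * g⁻¹ = r3A⁻¹ ∧ Repr sInv g := by
  obtain ⟨g, hg, hr⟩ := exists_code codes_ok.2.2.1
  refine ⟨g, hg, ?_, hr⟩
  rw [mul_inv_eq_iff_eq_mul, inv_eq_of_mul_eq_one_right
    (show r3A * r3A ^ 2 = 1 by rw [← pow_succ']; exact cube3)]
  refine (hr.comp repr3).unique ?_
  rw [Nat.eq_of_beq_eq_true codes_ok.2.2.2.1]
  exact (repr3.pow 2).comp hr

/-! ### The centraliser -/

theorem six_eq : fixF r3A = toSet 12587015 := by
  rw [fixF_repr repr3]; exact congrArg toSet (show fixedMask e3A = 12587015 by decide +kernel)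

theorem five_facts : (toSet 4198407 : Finset GolayPt).card = 5 ∧ toSet 4198407 ⊆ toSet 5902343 ∧
    (decide ((5902343 : ℕ) < 2 ^ 24) && inCode 5902343) = true ∧ (toSet 5902343 : Finset GolayPt).card = 8 ∧
    pc (16777215 ^^^ 5902343) = 16 ∧ pt 23 ∉ toSet 5902343 ∧ pt 23 ∉ toSet 4198407 ∧
    (∀ x : GolayPt, x ∈ toSet 12587015 ↔ x ∈ toSet 4198407 ∨ x = pt 23) := by decide +kernel

theorem fixM_six_card : Nat.card ↥(fixM (toSet 12587015)) ≤ 3 := by
  obtain ⟨h5, hsub, hcw, h8, h16, h23, h23', hsix⟩ := five_facts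
  have ho : toSet 5902343 ∈ octads := ⟨CfsgLeech.toSet_mem_CW hcw, h8⟩
  set K := fixM (toSet 4198407)
  have hK : Nat.card ↥K = 48 := by rw [show K = fixM _ from rfl, fixM, card_fix_finset h5.le, h5]; rfl
  have horb : (toSet (16777215 ^^^ 5902343) : Set GolayPt) ⊆ MulAction.orbit K (pt 23) := by
    intro x hx
    have hx' : x ∉ toSet 5902343 := fun hin => by
      have hall : ∀ i < 24, ((16777215 ^^^ 5902343 : ℕ).testBit i && (5902343 : ℕ).testBit i) = false := by
        decide +kernel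
      have h' := hall _ (idx_lt x)
      rw [mem_toSet.mp (Finset.mem_coe.mp hx), mem_toSet.mp hin] at h'
      exact Bool.noConfusion h'
    obtain ⟨k, hk, e⟩ := fix_five_orbit h5 ho hsub h23' (fun hc => hx' (hsub hc))
      (iff_of_false h23 hx')
    exact ⟨⟨k, hk⟩, e⟩
  have h1 := Set.ncard_le_ncard horb
  rw [Set.ncard_coe_finset, card_toSet, h16] at h1
  have h2 := card_inf_stab (H := K) (pt 23)
  rw [hK] at h2
  have h3 : fixM (toSet 12587015) ≤ K ⊓ MulAction.stabilizer (Equiv.Perm GolayPt) (pt 23) := fun g hg => by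
    obtain ⟨hg1, hg2⟩ := mem_fixM.mp hg
    exact ⟨mem_fixM.mpr ⟨hg1, fun p hp => hg2 p ((hsix p).mpr (Or.inl hp))⟩, hg2 _ ((hsix _).mpr (Or.inr rfl))⟩
  have h4 := Subgroup.card_le_of_le h3
  nlinarith [Nat.card_pos (α := ↥(K ⊓ MulAction.stabilizer (Equiv.Perm GolayPt) (pt 23)))]

theorem fixM_six_eq : fixM (toSet 12587015) = Subgroup.zpowers r3A := by
  refine (Subgroup.eq_of_le_of_card_ge (Subgroup.zpowers_le.mpr (mem_fixM.mpr ⟨mem_r3A, fun p hp => ?_⟩)) ?_).symm
  · rw [← six_eq] at hp; exact mem_fixF.mp hp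
  · rw [Nat.card_zpowers, order_3A]; exact fixM_six_card

theorem swap_facts : pt 22 ∈ toSet 12587015 ∧ pt 23 ∈ toSet 12587015 ∧
    ∀ i < 24, (12587015 : ℕ).testBit i = true →
      papp sInv i = if i = 22 then 23 else if i = 23 then 22 else i := by decide +kernel

theorem swap_idx (p : GolayPt) :
    idx (Equiv.swap (pt 22) (pt 23) p) = if idx p = 22 then 23 else if idx p = 23 then 22 else idx p := by
  rw [Equiv.swap_apply_def]
  by_cases h1 : p = pt 22
  · subst h1; rw [if_pos rfl, idx_pt (by norm_num), idx_pt (by norm_num), if_pos rfl]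
  by_cases h2 : p = pt 23
  · subst h2; rw [if_neg h1, if_pos rfl, idx_pt (by norm_num), idx_pt (by norm_num), if_neg (by norm_num), if_pos rfl]
  rw [if_neg h1, if_neg h2, if_neg (fun h => h1 (by rw [← h, pt_idx])), if_neg (fun h => h2 (by rw [← h, pt_idx]))]

theorem fix_stable {g r : Equiv.Perm GolayPt} (hc : g * r = r * g) (x : GolayPt) :
    x ∈ fixF r ↔ g x ∈ fixF r := by
  rw [mem_fixF, mem_fixF]
  have h := congrArg (fun k : Equiv.Perm GolayPt => k x) hc
  simp only [Equiv.Perm.mul_apply] at h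
  rw [← h]
  exact g.injective.eq_iff.symm

theorem card_centM_le : Nat.card ↥(centM r3A) ≤ 1080 := by
  classical
  set S := fixF r3A with hS
  have hmap : ∀ g : ↥(centM r3A), ∀ x, x ∈ S ↔ (g : Equiv.Perm GolayPt) x ∈ S := fun g x =>
    fix_stable (mem_centM.mp g.2).2 x
  let φ : ↥(centM r3A) →* Equiv.Perm {x // x ∈ S} :=
    MonoidHom.mk' (fun g => (g : Equiv.Perm GolayPt).subtypePerm (fun x => (hmap g x).symm)) fun a b => Equiv.ext fun x => rfl
  have hker : Nat.card ↥φ.ker ≤ 3 := by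
    refine le_trans (Nat.card_le_card_of_injective (fun g => (⟨(g.1 : Equiv.Perm GolayPt), ?_⟩ : ↥(fixM (toSet 12587015))))
      fun a b h => Subtype.ext (Subtype.ext (congrArg (fun z : ↥(fixM (toSet 12587015)) => z.1) h :))) fixM_six_card
    refine mem_fixM.mpr ⟨(mem_centM.mp g.1.2).1, fun p hp => ?_⟩
    have hp' : p ∈ S := by rw [hS, six_eq]; exact hp
    exact congrArg Subtype.val (Equiv.ext_iff.mp (MonoidHom.mem_ker.mp g.2) ⟨p, hp'⟩)
  have hout : φ.range ≠ ⊤ := by
    intro ht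
    have h22 : pt 22 ∈ S := by rw [hS, six_eq]; exact swap_facts.1
    have h23 : pt 23 ∈ S := by rw [hS, six_eq]; exact swap_facts.2.1
    obtain ⟨g, hg⟩ : Equiv.swap (⟨_, h22⟩ : {x // x ∈ S}) ⟨_, h23⟩ ∈ φ.range := by rw [ht]; trivial
    obtain ⟨w, hwM, -, hw⟩ := exists_inverter
    obtain ⟨hgM, hgc⟩ := mem_centM.mp g.2
    have hmem : (g : Equiv.Perm GolayPt)⁻¹ * w ∈ fixM (toSet 12587015) := by
      refine mem_fixM.mpr ⟨mul_mem (inv_mem hgM) hwM, fun p hp => ?_⟩
      have hp' : p ∈ S := by rw [hS, six_eq]; exact hp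
      have hgp : (g : Equiv.Perm GolayPt) p = Equiv.swap (pt 22) (pt 23) p := by
        rw [show (g : Equiv.Perm GolayPt) p = ((φ g) ⟨p, hp'⟩).val from rfl, hg]
        rw [Equiv.swap_apply_def, Equiv.swap_apply_def]
        simp only [Subtype.mk.injEq]
        split_ifs <;> rfl
      have hwp : w p = Equiv.swap (pt 22) (pt 23) p := by
        exact idx_injective (by rw [hw, swap_facts.2.2 _ (idx_lt p) (mem_toSet.mp hp), swap_idx])
      rw [Equiv.Perm.mul_apply, hwp, ← hgp, Equiv.Perm.inv_def, Equiv.symm_apply_apply]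
    rw [fixM_six_eq] at hmem
    obtain ⟨k, hk⟩ := hmem
    have hw' : w = (g : Equiv.Perm GolayPt) * r3A ^ k := by rw [show r3A ^ k = _ from hk, mul_inv_cancel_left]
    have hcomm : w * r3A = r3A * w :=
      hw' ▸ (((show Commute (g : Equiv.Perm GolayPt) r3A from hgc)).mul_left (Commute.zpow_self r3A k)).eq
    have h1 := hw.comp repr3
    rw [hcomm] at h1
    have h2 := permDec_injOn ⟨codes_ok.2.2.2.2.2.2.2.2.1, _, h1⟩ ⟨codes_ok.2.2.2.2.2.2.2.2.2, _, repr3.comp hw⟩
      ((permDec_eq h1).trans (permDec_eq (repr3.comp hw)).symm)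
    have h3 := codes_ok.2.2.2.2.1
    rw [h2, Nat.beq_refl] at h3
    exact Bool.noConfusion h3
  have hP : Nat.card (Equiv.Perm {x // x ∈ S}) = 720 := by
    rw [Nat.card_perm, Nat.card_eq_finsetCard, hS, card_fix_3A]; rfl
  have hidx := φ.range.card_mul_index
  rw [hP] at hidx
  have h2 : 2 ≤ φ.range.index := by
    rcases (show φ.range.index = 0 ∨ φ.range.index = 1 ∨ 2 ≤ φ.range.index by omega) with h | h | h
    · rw [h, mul_zero] at hidx; omega
    · exact absurd (Subgroup.index_eq_one.mp h) hout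
    · exact h
  have h := φ.ker.card_mul_index
  rw [Subgroup.index_ker] at h
  nlinarith [Nat.mul_le_mul hker (show Nat.card ↥φ.range ≤ 360 by nlinarith)]

/-! ### Fixed code words -/

/-- Six orbits. -/
def restM : List ℕ := [672, 17472, 4096, 1703936, 4194304, 8388608]

/-- The orbit representative of a point. -/
def rep3 (k : ℕ) : ℕ := min k (min (papp e3A k) (papp e3A (papp e3A k)))

theorem rep3_checked : ∀ k < 24, rep3 k < 24 ∧
    (rep3 k = k ∨ rep3 k = papp e3A k ∨ rep3 k = papp e3A (papp e3A k)) ∧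
    (rep3 k ∈ [0, 1, 2, 3, 4, 8] ∨ ∃ l < 6, (restM.getD l 0).testBit k = true ∧ rep3 k = [5, 6, 12, 17, 22, 23].getD l 0) := by
  decide +kernel

theorem rest_checked : ∀ m < 64, inCode (orBits ((List.range 24).filter fun k => (List.range 6).any fun l =>
    m.testBit l && (restM.getD l 0).testBit k)) = true → m = 0 := by decide +kernel

theorem mask_zero : toSet (orBits ((List.range 24).filter fun k => (List.range 6).any fun l =>
    (0 : ℕ).testBit l && (restM.getD l 0).testBit k)) = ∅ := by decide +kernel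

theorem rest_rep : ∀ k < 24, ∀ l < 6, (restM.getD l 0).testBit k = true → rep3 k = [5, 6, 12, 17, 22, 23].getD l 0 := by
  decide +kernel

theorem card_fixed_words : Nat.card {c : Finset GolayPt // c ∈ CW ∧ ∀ i, (r3A i ∈ c ↔ i ∈ c)} ≤ 64 := by
  classical
  have hrep : ∀ c : Finset GolayPt, (∀ i, r3A i ∈ c ↔ i ∈ c) → ∀ k < 24, (pt k ∈ c ↔ pt (rep3 k) ∈ c) := by
    intro c hc k hk
    have e1 : r3A (pt k) = pt (papp e3A k) := repr3.apply_pt hk
    have hk1 : papp e3A k < 24 := by rw [← idx_pt hk, ← repr3]; exact idx_lt _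
    rcases (rep3_checked k hk).2.1 with e | e | e
    · rw [e]
    · rw [e, ← e1, hc]
    · rw [e, ← repr3.apply_pt hk1, hc, ← e1, hc]
  let f : {c : Finset GolayPt // c ∈ CW ∧ ∀ i, (r3A i ∈ c ↔ i ∈ c)} → (Fin 6 → Bool) :=
    fun c l => decide (pt (([0, 1, 2, 3, 4, 8] : List ℕ).getD l.val 0) ∈ c.1)
  refine le_trans (Nat.card_le_card_of_injective f ?_) (by simp)
  rintro ⟨c, hcw, hc⟩ ⟨d, hdw, hd⟩ h
  have hs : symmDiff c d ∈ CW := CW_symmDiff hcw hdw
  set e := symmDiff c d with he
  have hefix : ∀ i, (r3A i ∈ e ↔ i ∈ e) := fun i => by simp [he, Finset.mem_symmDiff, hc i, hd i]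
  have hzero : ∀ l < 6, pt (([0, 1, 2, 3, 4, 8] : List ℕ).getD l 0) ∉ e := fun l hl hm => by
    have := congrFun h ⟨l, hl⟩
    simp only [f, decide_eq_decide] at this
    rw [he, Finset.mem_symmDiff] at hm
    tauto
  let m : ℕ := orBits ((List.range 6).filter fun l => decide (pt (([5, 6, 12, 17, 22, 23] : List ℕ).getD l 0) ∈ e))
  have hm : ∀ l, m.testBit l = true ↔ l < 6 ∧ pt (([5, 6, 12, 17, 22, 23] : List ℕ).getD l 0) ∈ e := fun l => by
    simp [m, testBit_orBits]
  have huniq := rest_rep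
  have hmask : orBits ((List.range 24).filter fun k => (List.range 6).any fun l =>
      m.testBit l && (restM.getD l 0).testBit k) = toMask e := by
    rw [toMask]
    refine congrArg orBits (List.filter_congr fun k hk => Bool.eq_iff_iff.mpr ?_)
    rw [List.mem_range] at hk
    rw [decide_eq_true_eq, List.any_eq_true, hrep e hefix k hk]
    constructor
    · rintro ⟨l, hl, hb⟩
      rw [Bool.and_eq_true] at hb
      rw [huniq k hk l (List.mem_range.mp hl) hb.2]
      exact ((hm l).mp hb.1).2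
    · intro hin
      rcases (rep3_checked k hk).2.2 with h6 | ⟨l, hl, hb, e'⟩
      · obtain ⟨l, hl, el⟩ := List.getElem_of_mem h6
        rw [← el, ← List.getD_eq_getElem _ 0 hl] at hin
        exact absurd hin (hzero l hl)
      · exact ⟨l, List.mem_range.mpr hl, by rw [Bool.and_eq_true]; exact ⟨(hm l).mpr ⟨hl, e' ▸ hin⟩, hb⟩⟩
  obtain ⟨w, hw, hwe⟩ := hs
  have h64 : m < 64 := Nat.lt_pow_two_of_testBit (n := 6) _ fun i hi => by
    by_contra hb
    rw [Bool.not_eq_false] at hb
    have := ((hm i).mp hb).1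
    omega
  have h0 := rest_checked m h64 (by rw [hmask, ← hwe]; exact inCode_of_mem hw)
  have hee : e = ∅ := by
    rw [← toSet_toMask e, ← hmask, h0]
    exact mask_zero
  exact Subtype.ext (symmDiff_eq_bot.mp hee)

/-! ### The subgroup of order 27 -/

/-- The code of an element. -/
def el27 (t : ℕ) : ℕ := pcomp (ppow sA (t / 9)) (pcomp (ppow sB (t / 3 % 3)) (ppow e3A (t % 3)))

/-- The code of a generator. -/
def gen27 (g : ℕ) : ℕ := if g = 0 then sA else if g = 1 then sB else e3A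

theorem el27_eq : ∀ t < 27, el27 t = e27.getD t 0 := by decide +kernel

theorem next_ok : ((List.range 27).all fun t => (List.range 3).all fun g => Nat.blt (next27.getD (3 * t + g) 27) 27 &&
    Nat.beq (pcomp (e27.getD t 0) (gen27 g)) (e27.getD (next27.getD (3 * t + g) 27) 0)) = true := by decide +kernel

theorem e27_facts : e27.length = 27 ∧ e27.Nodup ∧ e27.getD 0 0 = pid ∧ (e27.all fun c => decide (c < 2 ^ 120)) = true ∧
    Nat.beq (ppow sA 3) pid = true ∧ Nat.beq (ppow sB 3) pid = true ∧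
    e27.getD 1 0 = e3A ∧ e27.getD 2 0 = ppow e3A 2 := by decide +kernel

theorem central_ok : ((List.range 27).all fun t => Nat.blt t 3 ||
    !((List.range 2).all fun g => Nat.beq (pcomp (gen27 g) (e27.getD t 0)) (e27.getD (next27.getD (3 * t + g) 27) 0))) = true := by
  decide +kernel

/-- A subgroup of order 27 with centre generated by the permutation of order three. -/
theorem exists_P27 : ∃ H : Subgroup ↥M24, Nat.card ↥H = 27 ∧
    ∀ x ∈ H, (∀ y ∈ H, x * y = y * x) → (x : Equiv.Perm GolayPt) ∈ Subgroup.zpowers r3A := by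
  classical
  obtain ⟨a, ha, ra⟩ := exists_code codes_ok.1
  obtain ⟨b, hb, rb⟩ := exists_code codes_ok.2.1
  obtain ⟨hlen, hnd, hid, hlt, ha3, hb3, h1, h2⟩ := e27_facts
  set A : ↥M24 := ⟨a, ha⟩
  set B : ↥M24 := ⟨b, hb⟩
  set T : ↥M24 := ⟨r3A, mem_r3A⟩
  set H : Subgroup ↥M24 := Subgroup.closure {A, B, T}
  have hAH : A ∈ H := Subgroup.subset_closure (Or.inl rfl)
  have hBH : B ∈ H := Subgroup.subset_closure (Or.inr (Or.inl rfl))
  have hTH : T ∈ H := Subgroup.subset_closure (Or.inr (Or.inr rfl))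
  let E : ℕ → ↥M24 := fun t => A ^ (t / 9) * (B ^ (t / 3 % 3) * T ^ (t % 3))
  have hE : ∀ t < 27, Repr (e27.getD t 0) (E t : Equiv.Perm GolayPt) := fun t ht => by
    rw [← el27_eq t ht]
    exact (ra.pow _).comp ((rb.pow _).comp (repr3.pow _))
  have hgen : ∀ g < 3, ∀ y : ↥M24, y = (if g = 0 then A else if g = 1 then B else T) →
      Repr (gen27 g) (y : Equiv.Perm GolayPt) := by
    intro g hg y hy
    subst hy
    interval_cases g
    exacts [ra, rb, repr3]
  have hright : ∀ t < 27, ∀ g < 3, next27.getD (3 * t + g) 27 < 27 ∧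
      E (next27.getD (3 * t + g) 27) = E t * (if g = 0 then A else if g = 1 then B else T) := by
    intro t ht g hg
    have h := List.all_eq_true.mp (List.all_eq_true.mp next_ok t (List.mem_range.mpr ht)) g (List.mem_range.mpr hg)
    rw [Bool.and_eq_true, Nat.blt_eq] at h
    refine ⟨h.1, Subtype.ext ?_⟩
    have h' := (hE t ht).comp (hgen g hg _ rfl)
    rw [Nat.eq_of_beq_eq_true h.2] at h'
    exact (hE _ h.1).unique h'
  have cube : ∀ {c : ℕ} {x : Equiv.Perm GolayPt}, Repr c x → Nat.beq (ppow c 3) pid = true → x ^ 3 = 1 := by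
    intro c x hx hc
    have h := hx.pow 3
    rw [Nat.eq_of_beq_eq_true hc] at h
    exact h.unique repr_pid
  have hinv : ∀ y ∈ ({A, B, T} : Set ↥M24), y⁻¹ = y * y := fun y hy => by
    refine inv_eq_of_mul_eq_one_right (Subtype.ext ?_)
    rw [← pow_two, ← pow_succ', SubgroupClass.coe_pow]
    rcases hy with rfl | rfl | rfl
    exacts [cube ra ha3, cube rb hb3, cube3]
  have hstep : ∀ y ∈ ({A, B, T} : Set ↥M24), ∀ t < 27, ∃ u < 27, E t * y = E u := fun y hy t ht => by
    rcases hy with rfl | rfl | rfl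
    · exact ⟨_, (hright t ht 0 (by norm_num)).1, ((hright t ht 0 (by norm_num)).2).symm⟩
    · exact ⟨_, (hright t ht 1 (by norm_num)).1, ((hright t ht 1 (by norm_num)).2).symm⟩
    · exact ⟨_, (hright t ht 2 (by norm_num)).1, ((hright t ht 2 (by norm_num)).2).symm⟩
  have hset : ∀ x ∈ H, ∃ t < 27, x = E t := fun x hx => by
    refine Subgroup.closure_induction_right (p := fun x _ => ∃ t < 27, x = E t) ?_ ?_ ?_ hx
    · exact ⟨0, by norm_num, by simp [E]⟩
    · rintro x - y hy ⟨t, ht, rfl⟩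
      exact hstep y hy t ht
    · rintro x - y hy ⟨t, ht, rfl⟩
      obtain ⟨u, hu, e⟩ := hstep y hy t ht
      obtain ⟨w, hw, e'⟩ := hstep y hy u hu
      exact ⟨w, hw, by rw [hinv y hy, ← mul_assoc, e, e']⟩
  have hEH : ∀ t, E t ∈ H := fun t => mul_mem (pow_mem hAH _) (mul_mem (pow_mem hBH _) (pow_mem hTH _))
  have hlt' : ∀ t < 27, e27.getD t 0 < 2 ^ 120 := fun t ht => by
    rw [List.getD_eq_getElem _ _ (hlen.symm ▸ ht)]
    simpa using List.all_eq_true.mp hlt _ (List.getElem_mem (hlen.symm ▸ ht))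
  refine ⟨H, ?_, fun x hx hc => ?_⟩
  · refine (Nat.card_eq_of_bijective (fun t : Fin 27 => (⟨E t.val, hEH _⟩ : ↥H)) ⟨fun s t h => ?_, ?_⟩).symm.trans
      (Nat.card_fin 27)
    · have h0 : (E s.val : Equiv.Perm GolayPt) = E t.val := congrArg (fun z : ↥H => ((z : ↥M24) : Equiv.Perm GolayPt)) h
      have e := permDec_injOn ⟨hlt' _ s.2, _, hE _ s.2⟩ ⟨hlt' _ t.2, _, hE _ t.2⟩
        (by rw [permDec_eq (hE _ s.2), permDec_eq (hE _ t.2), h0])
      rw [List.getD_eq_getElem _ _ (hlen.symm ▸ s.2), List.getD_eq_getElem _ _ (hlen.symm ▸ t.2),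
        hnd.getElem_inj_iff] at e
      exact Fin.ext e
    · rintro ⟨y, hy⟩
      obtain ⟨t, ht, rfl⟩ := hset y hy
      exact ⟨⟨t, ht⟩, rfl⟩
  · obtain ⟨t, ht, rfl⟩ := hset x hx
    have h := List.all_eq_true.mp central_ok t (List.mem_range.mpr ht)
    rw [Bool.or_eq_true, Nat.blt_eq] at h
    have h3 : t < 3 := h.resolve_right fun hn => by
      rw [Bool.not_eq_true'] at hn
      refine Bool.false_ne_true (hn.symm.trans (List.all_eq_true.mpr fun g hg => ?_))
      have hg3 : g < 3 := (List.mem_range.mp hg).trans (by norm_num)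
      obtain ⟨hn1, hn2⟩ := hright t ht g hg3
      have hy : (if g = 0 then A else if g = 1 then B else T) ∈ H := by split_ifs <;> assumption
      have e := hn2.trans (hc _ hy)
      have h' := (hgen g hg3 _ rfl).comp (hE t ht)
      rw [← Subgroup.coe_mul, ← e] at h'
      rw [permDec_injOn ⟨pcomp_lt _ _, _, h'⟩ ⟨hlt' _ hn1, _, hE _ hn1⟩ ((permDec_eq h').trans (permDec_eq (hE _ hn1)).symm)]
      exact Nat.beq_refl _
    interval_cases t
    · simp [E]
    · simp [E]; exact Subgroup.mem_zpowers r3A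
    · simp [E]; exact Subgroup.npow_mem_zpowers r3A 2

end CfsgLib.MonsterQ.Three
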