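/-
The centraliser of the permutation of order three in the automorphism group of the lattice, on the fixed
classes: the standard subgroup extended by the semilinear involution.
-/
import Cfsg.Agent.Lib.MonsterQ.Three.Fixed
import Cfsg.Agent.Lib.MonsterQ.Three.Perm
import Cfsg.Agent.Lib.MonsterQ.Seven.Linear
import Cfsg.Agent.Lib.Fi24Q.Sets
import Cfsg.Agent.Lib.Fi24Q.Semi

set_option autoImplicit false
set_option maxRecDepth 100000
set_option linter.style.haveILetI false

namespace CfsgLib.MonsterQ.Three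

open Cfsg CfsgGolay CfsgLeech CfsgLeech.Models CfsgCoTwoOut CfsgLib.G24
open CfsgLib.MonsterQ.Seven (Cg_add congB congB_sound eqB el_eq el_append el_nil word_perm wordOK_append mono_rel stab_data)
open scoped Pointwise

attribute [local irreducible] codeL octadL dodecadL slpCodes r3A

abbrev V4 := Fi24Q.V

/-! ### Elements commuting with the permutation -/

/-- The word of the permutation. -/
def p3W : List Step := [some (ppow e3A 2, 0)]

theorem words_ok : wordOK p3W = true ∧ wordOK w0 = true ∧ wordOK w1 = true ∧ wordOK wR = true := by decide +kernel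

theorem comm0_checked : eqB (p3W ++ w0) (w0 ++ p3W) = true := by decide +kernel

theorem comm1_checked : eqB (p3W ++ w1) (w1 ++ p3W) = true := by decide +kernel

theorem commR_checked : eqB (p3W ++ wR) (wR ++ p3W) = true := by decide +kernel

theorem el_p3W : el p3W = p3 := by
  obtain ⟨τ, hτ, hp⟩ := p3_eq
  rw [hp]
  refine word_perm (σ := τ) words_ok.1 ?_
  rw [hτ, inv_eq_of_mul_eq_one_right (show r3A * r3A ^ 2 = 1 by rw [← pow_succ']; exact cube3)]
  exact repr3.pow 2

/-- The centraliser. -/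
noncomputable def CC : Subgroup ↥Co0 := Subgroup.centralizer {p3}

theorem mem_CC {g : ↥Co0} : g ∈ CC ↔ g * p3 = p3 * g := Subgroup.mem_centralizer_singleton_iff

theorem word_CC {w : List Step} (hw : wordOK w = true) (h : eqB (p3W ++ w) (w ++ p3W) = true) : el w ∈ CC := by
  have h' := el_eq (wordOK_append _ _ words_ok.1 hw) (wordOK_append _ _ hw words_ok.1) h
  rw [el_append words_ok.1 hw, el_append hw words_ok.1, el_p3W] at h'
  exact mem_CC.mpr h'

theorem p3_mem : p3 ∈ CC := mem_CC.mpr rfl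

theorem center_le_CC : Subgroup.center ↥Co0 ≤ CC := fun _ hg => mem_CC.mpr (Subgroup.mem_center_iff.mp hg p3).symm

/-! ### The action on the fixed classes -/

/-- An additive map is known on the basis. -/
theorem add_ext {f h : V4 → V4} (hf : ∀ u v, f (u + v) = f u + f v) (hh : ∀ u v, h (u + v) = h u + h v)
    (e : ∀ j < 12, f (Fi24Q.vecN (2 ^ j)) = h (Fi24Q.vecN (2 ^ j))) : f = h := by
  have h0 : f 0 = h 0 := by
    have a := hf 0 0; have b := hh 0 0
    rw [add_zero, left_eq_add] at a b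
    rw [a, b]
  have key : ∀ k ≤ 12, ∀ n < 2 ^ k, f (Fi24Q.vecN n) = h (Fi24Q.vecN n) := by
    intro k
    induction k with
    | zero =>
      intro _ n hn
      obtain rfl : n = 0 := by simpa using hn
      rw [show Fi24Q.vecN 0 = 0 from Fi24Q.cdV_inj (by rw [Fi24Q.cdV_vecN (by norm_num)]; rfl), h0]
    | succ k ih =>
      intro hk n hn
      by_cases hlt : n < 2 ^ k
      · exact ih (by omega) n hlt
      have hpk : 2 ^ (k + 1) ≤ 4096 := (Nat.pow_le_pow_right (by norm_num) hk).trans (by norm_num)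
      have hm : n ^^^ 2 ^ k < 2 ^ k := by
        refine Nat.lt_pow_two_of_testBit _ fun i hi => ?_
        rw [Nat.testBit_xor, Nat.testBit_two_pow]
        rcases hi.lt_or_eq with hi' | rfl
        · rw [Nat.testBit_lt_two_pow (hn.trans_le (Nat.pow_le_pow_right (by norm_num) hi')), decide_eq_false hi'.ne]
          rfl
        · have : n.testBit k = true := by
            obtain ⟨i, hi', hb⟩ := Nat.exists_ge_and_testBit_of_ge_two_pow (not_lt.mp hlt)
            rcases hi'.lt_or_eq with hi'' | rfl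
            · rw [Nat.testBit_lt_two_pow (hn.trans_le (Nat.pow_le_pow_right (by norm_num) hi''))] at hb
              exact absurd hb Bool.false_ne_true
            · exact hb
          simp [this]
      have e1 : Fi24Q.vecN n = Fi24Q.vecN (n ^^^ 2 ^ k) + Fi24Q.vecN (2 ^ k) := Fi24Q.cdV_inj (by
        rw [cdV_add, Fi24Q.cdV_vecN (by omega), Fi24Q.cdV_vecN (by omega),
          Fi24Q.cdV_vecN (by rw [pow_succ] at hpk; omega), Nat.xor_assoc, Nat.xor_self, Nat.xor_zero])
      rw [e1, hf, hh, ih (by omega) _ hm, e k (by omega)]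
  funext v
  rw [← Fi24Q.vecN_cdV v]
  exact key 12 le_rfl _ (Fi24Q.cdV_lt v)

theorem p3_fix_checked : ((List.range 12).all fun j => runB p3W (eC.getD j 0) fun d =>
    congB (vecN d) (vecN (eC.getD j 0))) = true := by decide +kernel

theorem p3_fix {x : ↥leechLattice} (hx : x ∈ P) : Cg (p3 • x) x := by
  obtain ⟨v, hv⟩ := hx
  refine ((Cg.map' p3 hv).trans' ?_).trans' hv.symm'
  have h0 : Cg (p3 • (0 : ↥leechLattice)) 0 := by
    rw [show p3 • (0 : ↥leechLattice) = 0 from map_zero (autHom p3)]; exact Cg.refl' 0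
  have hev : ∀ j < 12, Cg (p3 • ev' j) (ev' j) := by
    intro j hj
    obtain ⟨d, hd, hk⟩ := runB_sound _ _ _ (List.all_eq_true.mp p3_fix_checked j (List.mem_range.mpr hj))
    refine congB_sound ?_
    rw [← el_p3W, el_apply words_ok.1, ev_coe hj, hd]
    exact hk
  have hL : ∀ (m : ℕ) (L : List ℕ), (∀ j ∈ L, j < 12) →
      Cg (p3 • (L.map fun j => cond (m.testBit j) (ev' j) 0).sum) (L.map fun j => cond (m.testBit j) (ev' j) 0).sum := by
    intro m L
    induction L with
    | nil => intro _; exact h0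
    | cons a L ih =>
      intro hlt
      rw [List.map_cons, List.sum_cons, aut_add]
      refine Cg_add ?_ (ih fun j hj => hlt j (List.mem_cons_of_mem _ hj))
      cases m.testBit a
      · exact h0
      · exact hev a (hlt a List.mem_cons_self)
  exact hL _ _ fun j hj => List.mem_range.mp hj

theorem CC_P {g : ↥Co0} (hg : g ∈ CC) {x : ↥leechLattice} (hx : x ∈ P) : g • x ∈ P := by
  refine class_mem ?_
  rw [← mul_smul, ← mem_CC.mp hg, mul_smul]
  exact Cg.map' g (p3_fix hx)

theorem exists_act (g : ↥CC) (v : V4) : ∃ u, Cg ((g : ↥Co0) • sb v) (sb u) := mem_P.mp (CC_P g.2 (sb_mem_P v))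

/-- The action of an element. -/
noncomputable def act (g : ↥CC) (v : V4) : V4 := (exists_act g v).choose

theorem act_eq {g : ↥CC} {v u : V4} (h : Cg ((g : ↥Co0) • sb v) (sb u)) : act g v = u :=
  sb_inj ((exists_act g v).choose_spec.symm'.trans' h)

theorem act_spec (g : ↥CC) (v : V4) : Cg ((g : ↥Co0) • sb v) (sb (act g v)) := (exists_act g v).choose_spec

theorem act_one (v : V4) : act 1 v = v := act_eq (by rw [Subgroup.coe_one, one_smul]; exact Cg.refl' _)

theorem act_mul (g h : ↥CC) (v : V4) : act (g * h) v = act g (act h v) := act_eq (by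
  rw [Subgroup.coe_mul, mul_smul]
  exact (Cg.map' _ (act_spec h v)).trans' (act_spec g _))

theorem act_add (g : ↥CC) (u v : V4) : act g (u + v) = act g u + act g v := act_eq (by
  refine ((Cg.map' _ (sb_add u v)).trans' ?_).trans' (sb_add _ _).symm'
  rw [aut_add]
  exact Cg_add (act_spec g u) (act_spec g v))

/-- The action as a homomorphism. -/
noncomputable def theta : ↥CC →* Equiv.Perm V4 :=
  MonoidHom.mk' (fun g => ⟨act g, act g⁻¹, fun v => by rw [← act_mul, inv_mul_cancel, act_one],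
    fun v => by rw [← act_mul, mul_inv_cancel, act_one]⟩) fun g h => Equiv.ext fun v => act_mul g h v

theorem theta_apply (g : ↥CC) (v : V4) : theta g v = act g v := rfl

/-- The test of a word against a coded map. -/
noncomputable def mapB (w : List Step) (E : Fi24Q.Elt) : Bool :=
  (List.range 12).all fun j => runB w (eC.getD j 0) fun d =>
    congB (vecN d) (subF (Fi24Q.img E (2 ^ j)))

theorem map0_checked : mapB w0 (Fi24Q.eN (SUSixSub.gensA.getD 0 0) false) = true := by decide +kernel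

theorem map1_checked : mapB w1 (Fi24Q.eN (SUSixSub.gensA.getD 1 0) false) = true := by decide +kernel

theorem mapR_checked : mapB wR (SUSixSub.oneM, true) = true := by decide +kernel

theorem theta_word {w : List Step} (hw : wordOK w = true) (hC : el w ∈ CC) {E : Fi24Q.Elt} (h : mapB w E = true)
    {p : Equiv.Perm V4} (hp : Fi24Q.IsE p E) (hadd : ∀ u v, p (u + v) = p u + p v) : theta ⟨el w, hC⟩ = p := by
  refine Equiv.ext fun v => congrFun (add_ext (f := fun v => theta ⟨el w, hC⟩ v) (h := fun v => p v)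
    (act_add _) hadd fun j hj => act_eq ?_) v
  have hlt : 2 ^ j < 4096 := (Nat.pow_lt_pow_right (by norm_num) hj).trans_le (by norm_num)
  obtain ⟨d, hd, hk⟩ := runB_sound _ _ _ (List.all_eq_true.mp h j (List.mem_range.mpr hj))
  refine congB_sound ?_
  show congB ((el w • sb (Fi24Q.vecN (2 ^ j)) : ↥leechLattice) : GolayPt → ℤ) ((sb (p (Fi24Q.vecN (2 ^ j))) : ↥leechLattice) : GolayPt → ℤ) = true
  rw [sb, sb, Fi24Q.cdV_vecN hlt, hp.img_eq, sub_coe]
  have he : sub (2 ^ j) = ev' j := by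
    interval_cases j <;> simp [sub, List.range_succ, Nat.testBit, Nat.shiftRight_eq_div_pow]
  rw [he, el_apply hw, ev_coe hj, hd]
  exact hk

theorem kl_lift : Fi24Q.KL ≤ theta.range := by
  rw [Fi24Q.KL, SUSixSub.K0, MonoidHom.map_closure, Subgroup.closure_le]
  rintro _ ⟨_, ⟨i, rfl⟩, rfl⟩
  have hok : SUSixSub.okM (SUSixSub.ofN (SUSixSub.gensA.getD i.val 0)) = true := SUSixSub.okA_j i
  have hadd : ∀ u v, Fi24Q.lin (SUSixSub.elN (SUSixSub.gensA.getD i.val 0)) (u + v) =
      Fi24Q.lin (SUSixSub.elN (SUSixSub.gensA.getD i.val 0)) u + Fi24Q.lin (SUSixSub.elN (SUSixSub.gensA.getD i.val 0)) v :=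
    (Fi24Q.isIso_lin _).add
  fin_cases i
  · exact ⟨_, theta_word words_ok.2.1 (word_CC words_ok.2.1 comm0_checked) map0_checked (Fi24Q.isE_elN hok) hadd⟩
  · exact ⟨_, theta_word words_ok.2.2.1 (word_CC words_ok.2.2.1 comm1_checked) map1_checked (Fi24Q.isE_elN hok) hadd⟩

theorem Sg_lift : Fi24Q.Sg ∈ theta.range :=
  ⟨_, theta_word words_ok.2.2.2 (word_CC words_ok.2.2.2 commR_checked) mapR_checked Fi24Q.isE_Sg fun u v => by
    show Fi24Q.sgV (u + v) = Fi24Q.sgV u + Fi24Q.sgV v
    funext i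
    simp only [Fi24Q.sgV, Pi.add_apply, Fi24Q.cjK_add]⟩

theorem Sg_out : Fi24Q.Sg ∉ Fi24Q.KL := by
  rintro ⟨k, -, e⟩
  have h1 := Fi24Q.isSemi_Sg.smul K.w Fi24Q.t0
  rw [← e, (Fi24Q.isIso_lin k).smul] at h1
  obtain ⟨hne, -⟩ := (Fi24Q.sing_iff Fi24Q.t0).mp (Or.inl Fi24Q.t0_mem)
  have h2 : (K.w + SUSixSub.cjK K.w) • Fi24Q.lin k Fi24Q.t0 = 0 := by
    rw [add_smul, ← h1]
    exact funext fun i => (show ∀ a : K, a + a = 0 by decide) _
  rw [show K.w + SUSixSub.cjK K.w = (1 : K) from rfl, one_smul] at h2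
  exact hne ((Fi24Q.lin k).injective (h2.trans (Fi24Q.lin_zero k).symm))

/-! ### The orbit of the standard class -/

theorem t32_checked : inLatB (vecN t32C) = true ∧ Nat.beq (Fi24Q.tN) 5 = true ∧
    congB (subF 5) (vecN t32C) = true ∧ dN t32C t32C = 32 := by decide +kernel

theorem classA {v : V4} (hv : v ∈ Fi24Q.inM Fi24Q.maskA) :
    ∃ y : ↥leechLattice, sqNorm (y : GolayPt → ℤ) = 32 ∧ Cg (sb v) y := by
  obtain ⟨k, hk, rfl⟩ := Fi24Q.reach_A hv
  obtain ⟨g, hg⟩ := kl_lift hk
  obtain ⟨hl, ht, hc, hn⟩ := t32_checked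
  have h1 : Cg (sb Fi24Q.t0) (vecL t32C) := by
    refine congB_sound ?_
    rw [sb, Fi24Q.t0, Fi24Q.cdV_vecN (by rw [Nat.eq_of_beq_eq_true ht]; norm_num), Nat.eq_of_beq_eq_true ht,
      sub_coe, vecL_coe hl]
    exact hc
  refine ⟨(g : ↥Co0) • vecL t32C, ?_, ?_⟩
  · rw [aut_norm, vecL_coe hl, nN_eq, hn]
  · rw [← hg, theta_apply]
    exact (act_spec g _).symm'.trans' (Cg.map' _ h1)

theorem class64 {v : V4} {y : ↥leechLattice} (hy : sqNorm (y : GolayPt → ℤ) = 64) (h : Cg (sb v) y) :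
    v ∈ Fi24Q.inM Fi24Q.maskB := by
  have h0 : v ≠ 0 := by
    rintro rfl
    rw [sb_zero] at h
    exact not_cg_zero (fun e => by rw [e] at hy; simp [sqNorm] at hy) (by rw [hy]) h.symm'
  have hq : hh (sb v) = 0 := by rw [hh_cg h, hh, hy]; decide
  rw [hh_sb, Fi24Q.qN_cdV] at hq
  refine ((Fi24Q.sing_iff v).mpr ⟨h0, hq⟩).resolve_left fun hA => ?_
  obtain ⟨z, hz, hvz⟩ := classA hA
  have := (norm_of_cg (h.symm'.trans' hvz) (by rw [hy]) (by rw [hz]; norm_num)).1
  omega

theorem ax_none_norm : sqNorm (ax none : GolayPt → ℤ) = 64 :=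
  (eightSet_props (mem_eightSet.mpr ⟨none, 8, Or.inl rfl, rfl⟩)).2

theorem p3_ax : Cg (p3 • ax none) (ax none) := by
  obtain ⟨τ, hτ, hp⟩ := p3_eq
  have h : permHom τ ∈ modStab (ax none) := by
    rw [modStab_ax]; exact monoAut_keeps τ.2 CW_empty
  rw [hp]
  exact h

theorem CC_stab_card : Nat.card ↥(CC ⊓ crossStab) ≤ 69120 := by
  classical
  haveI := co0_finite
  obtain ⟨τ, hτ, hp⟩ := p3_eq
  let T := ↥(centM r3A) × {c : Finset GolayPt // c ∈ CW ∧ ∀ i, (r3A i ∈ c ↔ i ∈ c)}
  have hex : ∀ g : ↥(CC ⊓ crossStab), ∃ t : T, ∀ j, (g : ↥Co0) • ax j =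
      if t.1.1 j ∈ t.2.1 then -ax (t.1.1 j) else ax (t.1.1 j) := by
    intro g
    refine stab_data τ r3A hτ g ?_ (Subgroup.mem_inf.mp g.2).2
    rw [← hp]
    exact mem_CC.mp (Subgroup.mem_inf.mp g.2).1
  choose t ht using hex
  calc Nat.card ↥(CC ⊓ crossStab) ≤ Nat.card T := Nat.card_le_card_of_injective t fun a b hab =>
        Subtype.ext (ext_ax fun j => by rw [ht a, ht b, hab])
    _ ≤ 1080 * 64 := by
        rw [Nat.card_prod]; exact Nat.mul_le_mul card_centM_le card_fixed_words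
    _ = 69120 := rfl

theorem CC_card_le : Nat.card ↥CC ≤ 117573120 := by
  classical
  haveI := co0_finite
  obtain ⟨v0, hv0⟩ := mem_P.mp (class_mem p3_ax)
  letI : MulAction ↥CC V4 := MulAction.compHom V4 theta
  have hsm : ∀ (g : ↥CC) (v : V4), g • v = act g v := fun _ _ => rfl
  have horb : (MulAction.orbit ↥CC v0).ncard ≤ 1701 := by
    rw [← Fi24Q.ncard_B]
    refine Set.ncard_le_ncard ?_ (Set.toFinite _)
    rintro _ ⟨g, rfl⟩
    refine class64 (y := (g : ↥Co0) • ax none) ((aut_norm _ _).trans ax_none_norm) ?_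
    show Cg (sb (g • v0)) _
    rw [hsm]
    exact (act_spec g v0).symm'.trans' (Cg.map' _ hv0).symm'
  have hst : Nat.card ↥(MulAction.stabilizer ↥CC v0) ≤ 69120 := by
    refine le_trans (Nat.card_le_card_of_injective (fun g => (⟨(g.1 : ↥Co0), g.1.2, ?_⟩ : ↥(CC ⊓ crossStab))) ?_)
      CC_stab_card
    · rw [← modStab_ax]
      show Cg ((g.1 : ↥Co0) • ax none) (ax none)
      have e : act g.1 v0 = v0 := g.2
      have h2 := act_spec g.1 v0
      rw [e] at h2
      exact ((Cg.map' _ hv0).trans' h2).trans' hv0.symm'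
    · exact fun a b h => Subtype.ext (Subtype.ext (congrArg (fun z : ↥(CC ⊓ crossStab) => z.1) h))
  have h := (MulAction.stabilizer ↥CC v0).card_mul_index
  rw [MulAction.index_stabilizer] at h
  rw [← h]
  exact (Nat.mul_le_mul hst horb).trans (by norm_num)

/-! ### Range and kernel -/

theorem p3_order : orderOf p3 = 3 := by
  haveI : Fact (Nat.Prime 3) := ⟨Nat.prime_three⟩
  refine orderOf_eq_prime p3_cube fun h => ?_
  obtain ⟨τ, hτ, hp⟩ := p3_eq
  rw [hp, ← map_one permHom] at h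
  have e := congrArg Subtype.val (permHom_injective h)
  rw [hτ, OneMemClass.coe_one] at e
  have h3 := order_3A
  rw [e, orderOf_one] at h3
  norm_num at h3

theorem sup_le_CC : Subgroup.zpowers p3 ⊔ Subgroup.center ↥Co0 ≤ CC :=
  sup_le (Subgroup.zpowers_le.mpr p3_mem) center_le_CC

theorem theta_facts : Nat.card ↥theta.range = 19595520 ∧
    theta.ker = (Subgroup.zpowers p3 ⊔ Subgroup.center ↥Co0).subgroupOf CC := by
  classical
  haveI := co0_finite
  have hlow : Nat.card ↥Fi24Q.KL * 2 ≤ Nat.card ↥theta.range := by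
    have hd := Subgroup.card_dvd_of_le kl_lift
    have hne : Nat.card ↥Fi24Q.KL ≠ Nat.card ↥theta.range := fun e =>
      Sg_out ((Subgroup.eq_of_le_of_card_ge kl_lift e.ge).symm ▸ Sg_lift)
    obtain ⟨k, hk⟩ := hd
    rcases k with _ | _ | k
    · rw [hk, mul_zero] at hne; exact absurd hk (Nat.card_pos.ne')
    · exact absurd (by rw [hk, Nat.zero_add, mul_one]) hne
    · rw [hk]; exact Nat.mul_le_mul_left _ (by omega)
  rw [Fi24Q.card_KL] at hlow
  set Z := (Subgroup.zpowers p3 ⊔ Subgroup.center ↥Co0).subgroupOf CC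
  have hle : Z ≤ theta.ker := by
    have hkill : ∀ g : ↥CC, (∀ x ∈ P, Cg ((g : ↥Co0) • x) x) → g ∈ theta.ker := fun g h =>
      MonoidHom.mem_ker.mpr (Equiv.ext fun v => act_eq (h _ (sb_mem_P v)))
    intro g hg
    rw [Subgroup.mem_subgroupOf, ← SetLike.mem_coe, Subgroup.mul_normal, Set.mem_mul] at hg
    obtain ⟨a, ha, c, hc, hac⟩ := hg
    have ha' : (⟨a, Subgroup.zpowers_le.mpr p3_mem ha⟩ : ↥CC) ∈ theta.ker := by
      obtain ⟨n, rfl⟩ := ha
      have := theta.ker.zpow_mem (hkill ⟨p3, p3_mem⟩ fun x hx => p3_fix hx) n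
      convert this using 1
      exact Subtype.ext (by simp)
    have hc' : (⟨c, center_le_CC hc⟩ : ↥CC) ∈ theta.ker := hkill _ fun x _ => center_le_modStab x hc
    convert mul_mem ha' hc' using 1
    exact Subtype.ext hac.symm
  have h6 : 6 ≤ Nat.card ↥Z := by
    rw [Nat.card_congr (Subgroup.subgroupOfEquivOfLe sup_le_CC).toEquiv]
    have h3 : 3 ∣ Nat.card ↥(Subgroup.zpowers p3 ⊔ Subgroup.center ↥Co0) := by
      have := Subgroup.card_dvd_of_le (le_sup_left : Subgroup.zpowers p3 ≤ Subgroup.zpowers p3 ⊔ Subgroup.center ↥Co0)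
      rwa [Nat.card_zpowers, p3_order] at this
    have h2 : 2 ∣ Nat.card ↥(Subgroup.zpowers p3 ⊔ Subgroup.center ↥Co0) := by
      have := Subgroup.card_dvd_of_le (le_sup_right : Subgroup.center ↥Co0 ≤ Subgroup.zpowers p3 ⊔ Subgroup.center ↥Co0)
      rwa [center_card] at this
    exact Nat.le_of_dvd Nat.card_pos (Nat.Coprime.mul_dvd_of_dvd_of_dvd (show Nat.Coprime 2 3 by norm_num) h2 h3)
  have hidx := theta.ker.card_mul_index
  rw [Subgroup.index_ker] at hidx
  have h1 := Subgroup.card_le_of_le hle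
  have h2 := CC_card_le
  exact ⟨by nlinarith, (Subgroup.eq_of_le_of_card_ge hle (by nlinarith)).symm⟩

theorem range_split {p : Equiv.Perm V4} (hp : p ∈ theta.range) : p ∈ Fi24Q.KL ∨ p * Fi24Q.Sg ∈ Fi24Q.KL := by
  have h2 : (Fi24Q.KL.subgroupOf theta.range).index = 2 := by
    have h := (Fi24Q.KL.subgroupOf theta.range).card_mul_index
    rw [Nat.card_congr (Subgroup.subgroupOfEquivOfLe kl_lift).toEquiv, Fi24Q.card_KL, theta_facts.1] at h
    omega
  have h := Subgroup.mul_mem_iff_of_index_two h2 (a := ⟨p, hp⟩) (b := ⟨Fi24Q.Sg, Sg_lift⟩)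
  simp only [Subgroup.mem_subgroupOf, Subgroup.coe_mul] at h
  by_cases hk : p ∈ Fi24Q.KL
  · exact Or.inl hk
  · exact Or.inr (h.mpr (iff_of_false hk Sg_out))

end CfsgLib.MonsterQ.Three
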