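/-
The image of the centraliser of the permutation of order three on the fixed classes: its two-core is trivial,
the scalars are normal in it, and the standard subgroup is a cover of the unitary group.
-/
import Cfsg.Agent.Lib.MonsterQ.Three.Linear
import Cfsg.Agent.Lib.SUSixSub.Main
import Cfsg.Agent.Lib.UnitarySimple

set_option autoImplicit false
set_option maxRecDepth 100000
set_option linter.style.haveILetI false

namespace CfsgLib.MonsterQ.Three

open Cfsg CfsgGolay CfsgLeech CfsgLib.G24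
open CfsgLib.SUSixSub (K0 Zs om gm gm_om pi0 pi0_surjective card_Zs Zs_central Zs_le_K0)
open CfsgLib.U43Mult (SmallU small_card)

attribute [local irreducible] codeL octadL dodecadL slpCodes r3A

/-- The scalars as permutations. -/
noncomputable def ZP : Subgroup (Equiv.Perm V4) := Zs.map Fi24Q.lin

theorem ZP_le : ZP ≤ Fi24Q.KL := Subgroup.map_mono Zs_le_K0

theorem card_ZP : Nat.card ↥ZP = 3 := by
  rw [ZP, Subgroup.card_map_of_injective Fi24Q.lin_injective, card_Zs]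

theorem lin_om (v : V4) : Fi24Q.lin om v = K.w • v := by
  rw [Fi24Q.lin_apply, gm_om, Matrix.smul_mulVec, Matrix.one_mulVec]

theorem KL_normal : (Fi24Q.KL.subgroupOf theta.range).index = 2 := by
  have h := (Fi24Q.KL.subgroupOf theta.range).card_mul_index
  rw [Nat.card_congr (Subgroup.subgroupOfEquivOfLe kl_lift).toEquiv, Fi24Q.card_KL, theta_facts.1] at h
  omega

theorem KL_conj {r k : Equiv.Perm V4} (hr : r ∈ theta.range) (hk : k ∈ Fi24Q.KL) : r * k * r⁻¹ ∈ Fi24Q.KL :=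
  (Subgroup.normal_of_index_eq_two KL_normal).conj_mem ⟨k, kl_lift hk⟩ hk ⟨r, hr⟩

theorem Sg_conj_om : Fi24Q.Sg * Fi24Q.lin om * Fi24Q.Sg⁻¹ = Fi24Q.lin om * Fi24Q.lin om := by
  refine Equiv.ext fun v => ?_
  rw [Fi24Q.Sg_inv, Equiv.Perm.mul_apply, Equiv.Perm.mul_apply, Equiv.Perm.mul_apply, lin_om, lin_om, lin_om,
    Fi24Q.Sg_smul, Fi24Q.Sg_Sg, smul_smul, show SUSixSub.cjK K.w = K.w * K.w from rfl]

theorem ZP_conj {r x : Equiv.Perm V4} (hr : r ∈ theta.range) (hx : x ∈ ZP) : r * x * r⁻¹ ∈ ZP := by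
  have hgen : ∀ {s : Equiv.Perm V4}, s * Fi24Q.lin om * s⁻¹ ∈ ZP → ∀ {y}, y ∈ ZP → s * y * s⁻¹ ∈ ZP := by
    intro s hs y hy
    obtain ⟨k, ⟨n, rfl⟩, rfl⟩ := hy
    rw [map_zpow, ← conj_zpow]
    exact zpow_mem hs n
  have hKL : ∀ k ∈ Fi24Q.KL, ∀ y ∈ ZP, k * y * k⁻¹ ∈ ZP := by
    rintro _ ⟨k, -, rfl⟩ _ ⟨y, hy, rfl⟩
    rw [← map_inv, ← map_mul, ← map_mul, Subgroup.mem_center_iff.mp (Zs_central hy) k, mul_inv_cancel_right]
    exact Subgroup.mem_map_of_mem _ hy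
  rcases range_split hr with h | h
  · exact hKL r h x hx
  · have h1 : Fi24Q.Sg * x * Fi24Q.Sg⁻¹ ∈ ZP :=
      hgen (by rw [Sg_conj_om]; exact mul_mem ⟨om, Subgroup.mem_zpowers _, rfl⟩ ⟨om, Subgroup.mem_zpowers _, rfl⟩) hx
    have h2 := hKL _ h _ h1
    rwa [show r * Fi24Q.Sg * (Fi24Q.Sg * x * Fi24Q.Sg⁻¹) * (r * Fi24Q.Sg)⁻¹ =
      r * (Fi24Q.Sg * Fi24Q.Sg) * x * (Fi24Q.Sg * Fi24Q.Sg)⁻¹ * r⁻¹ by group, Fi24Q.Sg_sq, mul_one, inv_one,
      mul_one] at h2

theorem small_simple : IsSimpleGroup SmallU := by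
  haveI : Fact (Nat.Prime 3) := ⟨Nat.prime_three⟩
  letI : Fintype (GaloisField 3 2) := Fintype.ofFinite _
  have hF : Fintype.card (GaloisField 3 2) = 9 := by
    rw [← Nat.card_eq_fintype_card, GaloisField.card 3 2 two_ne_zero]; norm_num
  obtain ⟨-, -, ⟨e⟩⟩ := small_card hF
  haveI : IsSimpleGroup (Cfsg.PSU 4 (GaloisField 3 2) 3) :=
    CfsgLib.UnitarySimple.simple (F := GaloisField 3 2) (q := 3) (by rw [hF]; norm_num) (by norm_num) (by norm_num)
  exact e.symm.isSimpleGroup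

/-- The image has no nontrivial normal subgroup of two-power order. -/
theorem range_core {P : Subgroup (Equiv.Perm V4)} (hP : P ≤ theta.range)
    (hn : ∀ g ∈ theta.range, ∀ p ∈ P, g * p * g⁻¹ ∈ P) (h2 : IsPGroup 2 P) : P = ⊥ := by
  haveI := small_simple
  haveI : Fact (Nat.Prime 2) := ⟨Nat.prime_two⟩
  have hinj : Function.Injective (Fi24Q.lin.comp K0.subtype) := Fi24Q.lin_injective.comp K0.subtype_injective
  set T : Subgroup ↥K0 := P.comap (Fi24Q.lin.comp K0.subtype) with hT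
  haveI hTn : T.Normal := ⟨fun t ht k => by
    show Fi24Q.lin ((k * t * k⁻¹ : ↥K0) : SUSixSub.Γ) ∈ P
    rw [Subgroup.coe_mul, Subgroup.coe_mul, Subgroup.coe_inv, map_mul, map_mul, map_inv]
    exact hn _ (kl_lift ⟨_, k.2, rfl⟩) _ ht⟩
  have hT2 : IsPGroup 2 T := h2.comap_of_injective _ hinj
  have hU : T.map pi0 = ⊥ := by
    rcases (Subgroup.Normal.map hTn pi0 pi0_surjective).eq_bot_or_eq_top with h | h
    · exact h
    · exfalso
      have h3 := hT2.map pi0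
      rw [h] at h3
      obtain ⟨k, hk⟩ := h3.exists_card_eq
      rw [Subgroup.card_top, SUSixSub.small_u_card] at hk
      have := (show Nat.Prime 3 by norm_num).dvd_of_dvd_pow (show (3 : ℕ) ∣ 2 ^ k from ⟨1088640, by omega⟩)
      norm_num at this
  have hle : T ≤ pi0.ker := (Subgroup.map_eq_bot_iff T).mp hU
  have hbot : T = ⊥ := by
    refine Subgroup.eq_bot_of_card_eq T ?_
    obtain ⟨k, hk⟩ := hT2.exists_card_eq
    have hd := Subgroup.card_dvd_of_le hle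
    rw [Nat.card_congr (pi0.ker.equivMapOfInjective K0.subtype K0.subtype_injective).toEquiv, SUSixSub.pi0_ker,
      card_Zs] at hd
    rcases (Nat.dvd_prime Nat.prime_three).mp hd with h | h
    · exact h
    · exfalso
      rw [hk] at h
      rcases k with _ | k
      · norm_num at h
      · rw [pow_succ] at h; omega
  have hKL : ∀ p ∈ P, p ∈ Fi24Q.KL → p = 1 := by
    rintro _ hp ⟨k, hk, rfl⟩
    have hm : (⟨k, hk⟩ : ↥K0) ∈ T := hp
    rw [hbot, Subgroup.mem_bot, Subtype.ext_iff] at hm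
    rw [show k = 1 from hm, map_one]
  rw [Subgroup.eq_bot_iff_forall]
  intro p hp
  by_contra hne
  have hout : p ∉ Fi24Q.KL := fun h => hne (hKL p hp h)
  obtain ⟨k, hk, hke⟩ := (range_split (hP hp)).resolve_left hout
  have hpe : p = Fi24Q.lin k * Fi24Q.Sg := by rw [hke, mul_assoc, Fi24Q.Sg_sq, mul_one]
  have hsemi : Fi24Q.IsSemi p := hpe ▸ (Fi24Q.isIso_lin k).mul_semi Fi24Q.isSemi_Sg
  have hom : Fi24Q.lin om ∈ Fi24Q.KL := ⟨om, Zs_le_K0 (Subgroup.mem_zpowers _), rfl⟩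
  have hc : p * Fi24Q.lin om * p⁻¹ * (Fi24Q.lin om)⁻¹ = 1 := by
    refine hKL _ ?_ (mul_mem (KL_conj (hP hp) hom) (inv_mem hom))
    rw [show p * Fi24Q.lin om * p⁻¹ * (Fi24Q.lin om)⁻¹ = p * (Fi24Q.lin om * p⁻¹ * (Fi24Q.lin om)⁻¹) by group]
    exact mul_mem hp (hn _ (kl_lift hom) _ (inv_mem hp))
  rw [mul_inv_eq_one, mul_inv_eq_iff_eq_mul] at hc
  have h1 := congrArg (fun q : Equiv.Perm V4 => q (p.symm Fi24Q.t0)) hc
  simp only [Equiv.Perm.mul_apply, lin_om, hsemi.smul, Equiv.apply_symm_apply] at h1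
  obtain ⟨h0, -⟩ := (Fi24Q.sing_iff Fi24Q.t0).mp (Or.inl Fi24Q.t0_mem)
  have h3 : (K.w + SUSixSub.cjK K.w) • Fi24Q.t0 = 0 := by
    rw [add_smul, h1]
    exact funext fun i => (show ∀ a : K, a + a = 0 by decide) _
  rw [show K.w + SUSixSub.cjK K.w = (1 : K) from rfl, one_smul] at h3
  exact h0 h3

end CfsgLib.MonsterQ.Three
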