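/-
Groups of Monster type: an element of order three central in a Sylow subgroup of the centraliser of `z` and
a conjugate of `z` in `Q`, in standard coordinates, and an element fusing the two conjugates.
-/
import Cfsg.Agent.Lib.MonsterQ.Three.Linear
import Cfsg.Agent.Lib.MonsterQ.Seven.Setup

set_option autoImplicit false
set_option maxRecDepth 100000
set_option linter.style.haveILetI false
set_option linter.unusedSectionVars false

namespace CfsgLib.MonsterQ.Three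

open Cfsg CfsgGolay CfsgLeech CfsgLib.ExtraTwo
open CfsgLib.MonsterQ.Seven (twist twist_psi twist_e ax_norm pow_conj_eq ip ip_cg co1_fin Cg_add)
open scoped Pointwise commutatorElement

attribute [local irreducible] codeL octadL dodecadL slpCodes r3A

variable {G : Type*} [Group G] [Finite G] {z : G} {Q : Subgroup (Subgroup.centralizer ({z} : Set G))} [Q.Normal]

theorem fact_three {n m k : ℕ} (h : n = 3 ^ k * m) (hm : ¬ 3 ∣ m) : n.factorization 3 = k :=
  factorization_eq Nat.prime_three h hm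

/-- Subgroups of the largest power order of three are conjugate. -/
theorem syl_conj {Γ : Type*} [Group Γ] [Finite Γ] (H A B : Subgroup Γ) (hA : A ≤ H) (hB : B ≤ H) {k : ℕ}
    (cA : Nat.card ↥A = 3 ^ k) (cB : Nat.card ↥B = 3 ^ k) (hH : (Nat.card ↥H).factorization 3 = k) :
    ∃ h ∈ H, (∀ x ∈ A, h * x * h⁻¹ ∈ B) ∧ ∀ y ∈ B, h⁻¹ * y * h ∈ A := by
  haveI : Fact (Nat.Prime 3) := ⟨Nat.prime_three⟩
  have ca : Nat.card ↥(A.subgroupOf H) = 3 ^ (Nat.card ↥H).factorization 3 := by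
    rw [Nat.card_congr (Subgroup.subgroupOfEquivOfLe hA).toEquiv, cA, hH]
  have cb : Nat.card ↥(B.subgroupOf H) = 3 ^ (Nat.card ↥H).factorization 3 := by
    rw [Nat.card_congr (Subgroup.subgroupOfEquivOfLe hB).toEquiv, cB, hH]
  obtain ⟨h, hh⟩ := MulAction.exists_smul_eq ↥H (Sylow.ofCard (A.subgroupOf H) ca) (Sylow.ofCard (B.subgroupOf H) cb)
  refine ⟨h, h.2, fun x hx => ?_, fun y hy => ?_⟩
  · have hm : h * ⟨x, hA hx⟩ * h⁻¹ ∈ (h • Sylow.ofCard (A.subgroupOf H) ca : Sylow 3 ↥H) :=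
      ⟨⟨x, hA hx⟩, hx, rfl⟩
    rw [hh] at hm
    exact hm
  · have hm : (⟨y, hB hy⟩ : ↥H) ∈ (h • Sylow.ofCard (A.subgroupOf H) ca : Sylow 3 ↥H) := by rw [hh]; exact hy
    obtain ⟨x, hx, he⟩ := hm
    have he' : (h : Γ) * (x : Γ) * (h : Γ)⁻¹ = y := congrArg Subtype.val he
    rw [← he', show (h : Γ)⁻¹ * ((h : Γ) * x * (h : Γ)⁻¹) * h = x by group]
    exact hx

theorem mem_pow {Γ : Type*} [Group Γ] [Finite Γ] {x y : Γ} (hx : x ^ 3 = 1) (hy : y ∈ Subgroup.zpowers x) :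
    ∃ i < 3, y = x ^ i := by
  rw [← (isOfFinOrder_of_finite x).mem_powers_iff_mem_zpowers, Submonoid.mem_powers_iff] at hy
  obtain ⟨n, rfl⟩ := hy
  refine ⟨n % 3, Nat.mod_lt _ (by norm_num), ?_⟩
  conv_lhs => rw [← Nat.div_add_mod n 3, pow_add, pow_mul, hx, one_pow, one_mul]

/-- Exchanging `z` and its conjugate. -/
theorem inverse_mem (D : Data z Q) {g : G} {a : Q} (hg : g * z * g⁻¹ = ((a : Cz z) : G))
    (hne : ((a : Cz z) : G) ≠ z) : ∃ y : Q, ((y : Cz z) : G) = g⁻¹ * z * g := by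
  obtain ⟨-, v, g₀, -, -, -, hcard, -⟩ := D.main hg hne
  by_contra hnot
  push Not at hnot
  have hzn : (D.zq : Cz z) ∉ Qc Q g := fun h => by
    obtain ⟨p, hp, hpe⟩ := mem_Qc.mp h
    refine hnot ⟨p, hp⟩ ?_
    show (p : G) = g⁻¹ * z * g
    have hpe' : g * (p : G) * g⁻¹ = z := hpe
    calc (p : G) = g⁻¹ * (g * (p : G) * g⁻¹) * g := by group
      _ = _ := by rw [hpe']
  set E : Subgroup ↥Q := (Qc Q g).subgroupOf Q with hE
  have hEc : Nat.card ↥E = 2 ^ 13 := by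
    rw [hE, ← Subgroup.card_map_of_injective Q.subtype_injective, Subgroup.subgroupOf_map_subtype, inf_comm]
    exact hcard
  have hzE : D.zq ∉ E := hzn
  have hcen : D.zq ∈ Subgroup.center ↥Q := (D.ext2.center_iff _).mpr (Or.inr rfl)
  haveI : (Subgroup.zpowers D.zq).Normal := ⟨fun x hx y => by
    have hxc : x ∈ Subgroup.center ↥Q := Subgroup.zpowers_le.mpr hcen hx
    rw [Subgroup.mem_center_iff.mp hxc y, mul_inv_cancel_right]; exact hx⟩
  set A := E ⊔ Subgroup.zpowers D.zq with hA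
  have hz2 : ∀ b ∈ Subgroup.zpowers D.zq, b = 1 ∨ b = D.zq := fun b hb =>
    (D.ext2.center_iff b).mp (Subgroup.zpowers_le.mpr hcen hb)
  have hAm : ∀ x ∈ A, ∃ e ∈ E, ∃ b ∈ Subgroup.zpowers D.zq, x = e * b := fun x hx => by
    rw [hA, ← SetLike.mem_coe, Subgroup.mul_normal, Set.mem_mul] at hx
    obtain ⟨e, he, b, hb, rfl⟩ := hx
    exact ⟨e, he, b, hb, rfl⟩
  have hcomm : ∀ e₁ ∈ E, ∀ e₂ ∈ E, e₁ * e₂ = e₂ * e₁ ∧ e₁ * e₁ = 1 := fun e₁ h₁ e₂ h₂ =>
    D.qc_comm_sq hg hne e₁ e₂ h₁ h₂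
  have hsq : ∀ x ∈ A, x * x = 1 := by
    intro x hx
    obtain ⟨e, he, b, hb, rfl⟩ := hAm x hx
    rcases hz2 b hb with rfl | rfl
    · rw [mul_one]; exact (hcomm e he e he).2
    · rw [(D.ext2.z_comm e).symm.mul_mul_mul_comm, (hcomm e he e he).2, D.ext2.zz, one_mul]
  have hAc : IsMulCommutative A := ⟨⟨fun x y => Subtype.ext (by
    have inv : ∀ t ∈ A, t⁻¹ = t := fun t ht => inv_eq_of_mul_eq_one_right (hsq t ht)
    calc (x : Q) * y = ((x : Q) * y)⁻¹ := (inv _ (A.mul_mem x.2 y.2)).symm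
      _ = (y : Q) * x := by rw [mul_inv_rev, inv _ x.2, inv _ y.2])⟩⟩
  have hle := (ExtraTwo.card_elementary_le D.ext2 (n := 12) D.card_Q hAc fun t ht => by rw [pow_two]; exact hsq t ht).1
  have hlt : E < A := lt_of_le_of_ne le_sup_left fun e => hzE (by rw [e]; exact Subgroup.mem_sup_right (Subgroup.mem_zpowers _))
  have hdvd := Subgroup.card_dvd_of_le hlt.le
  have hne' : Nat.card ↥E ≠ Nat.card ↥A := fun e => hlt.ne (Subgroup.eq_of_le_of_card_ge hlt.le e.ge)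
  have hpos : 0 < Nat.card ↥A := Nat.card_pos
  rw [hEc] at hdvd hne'
  have := Nat.le_of_dvd hpos hdvd
  norm_num at hle hne' this
  omega

/-- The element of order three and the conjugate it centralises, in standard coordinates, with a Sylow subgroup
of their centraliser in whose centre it lies. -/
structure Thr (D : Data z Q) where
  a : Q
  β : Cz z
  P₀ : Subgroup (Cz z)
  pow3 : β ^ 3 = 1
  eβ : D.e (QuotientGroup.mk β) = QuotientGroup.mk p3
  comm : β * (a : Cz z) = (a : Cz z) * β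
  vec : D.ψ (ax none) = QuotientGroup.mk a
  syl_le : P₀ ≤ Subgroup.centralizer ({(a : Cz z)} : Set (Cz z))
  syl_card : Nat.card ↥P₀ = 27
  syl_mem : β ∈ P₀
  syl_comm : ∀ x ∈ P₀, x * β = β * x
  syl_center : ∀ x ∈ P₀, (∀ y ∈ P₀, x * y = y * x) → x ∈ Subgroup.zpowers β

theorem mk_p3_order : orderOf (QuotientGroup.mk p3 : Spor.Co1) = 3 := by
  haveI : Fact (Nat.Prime 3) := ⟨Nat.prime_three⟩
  refine orderOf_eq_prime (by rw [← QuotientGroup.mk_pow, p3_cube]; rfl) fun h => ?_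
  have h3 := p3_order
  rcases center_eq ((QuotientGroup.eq_one_iff _).mp h) with e | e
  · rw [e, orderOf_one] at h3; norm_num at h3
  · have h2 : p3 ^ 2 = 1 := by
      rw [e, pow_two]
      exact aut_ext fun v => by rw [mul_smul, negAut_apply, negAut_apply, neg_neg, one_smul]
    have := orderOf_dvd_of_pow_eq_one h2
    rw [h3] at this
    norm_num at this

theorem q_cop (D : Data z Q) {q : Cz z} (hq : q ∈ Q) (h3 : q ^ 3 = 1) : q = 1 := by
  have h2 : orderOf q ∣ 2 ^ 25 := by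
    have := orderOf_dvd_natCard (⟨q, hq⟩ : Q)
    rw [D.card_Q, Subgroup.orderOf_mk] at this
    exact this
  have hg := Nat.dvd_gcd h2 (orderOf_dvd_of_pow_eq_one h3)
  norm_num at hg
  exact hg

theorem exists_thr (hM : IsOfMonsterType z Q) {s : G}
    (hsQ : ∃ hsc : s ∈ Cz z, (⟨s, hsc⟩ : Cz z) ∈ Q) (hs : IsConj z s) (hs1 : s ≠ z) {Y : Subgroup G}
    (hY : Y ≤ Subgroup.centralizer ({z, s} : Set G)) (hY3 : Nat.card Y = 3)
    (hc : ∃ P : Sylow 3 ↥(Subgroup.centralizer ({z, s} : Set G)), Y.subgroupOf (Subgroup.centralizer ({z, s} : Set G)) ≤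
      (Subgroup.center ↥(P : Subgroup ↥(Subgroup.centralizer ({z, s} : Set G)))).map
        (P : Subgroup ↥(Subgroup.centralizer ({z, s} : Set G))).subtype) :
    ∃ (D : Data z Q) (S : Thr D), ((S.a : Cz z) : G) = s ∧ Y = Subgroup.zpowers ((S.β : Cz z) : G) := by
  classical
  haveI : Fact (Nat.Prime 3) := ⟨Nat.prime_three⟩
  obtain ⟨D⟩ := exists_data hM
  obtain ⟨a, rfl⟩ := exists_elt hsQ
  obtain ⟨v, hn, hv⟩ := D.norm_of_conj hs hs1
  obtain ⟨g₀, hg₀⟩ := shell_transitive (fun _ h h' => eqv64 h h') (ax none) v ax_norm hn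
  set D₁ := twist D g₀
  have hv₁ : D₁.ψ (ax none) = QuotientGroup.mk a := by rw [twist_psi, hg₀]; exact hv
  have hnc : a ∉ Subgroup.center ↥Q :=
    D₁.not_center hv₁ (Data.ne_zero_of_norm ax_norm (by norm_num)) (by rw [ax_norm])
  set L : Subgroup G := Subgroup.centralizer ({z, ((a : Cz z) : G)} : Set G)
  set X : Subgroup (Cz z) := Subgroup.centralizer ({(a : Cz z)} : Set (Cz z))
  have hmap : X.map (Cz z).subtype = L := by
    ext x
    constructor
    · rintro ⟨y, hy, rfl⟩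
      rw [Subgroup.mem_centralizer_iff]
      rintro w (rfl | rfl)
      · exact (Subgroup.mem_centralizer_singleton_iff.mp y.2).symm
      · exact (congrArg Subtype.val (Subgroup.mem_centralizer_singleton_iff.mp hy)).symm
    · intro hx
      rw [Subgroup.mem_centralizer_iff] at hx
      refine ⟨⟨x, Subgroup.mem_centralizer_singleton_iff.mpr (hx z (Or.inl rfl)).symm⟩, ?_, rfl⟩
      exact Subgroup.mem_centralizer_singleton_iff.mpr (Subtype.ext (hx _ (Or.inr rfl)).symm)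
  have hcard := D₁.card_centralizer hv₁ hnc
  rw [modImg_ax_card] at hcard
  have hLc : Nat.card ↥L = Nat.card ↥X := by
    rw [← hmap, Subgroup.card_map_of_injective (Cz z).subtype_injective]
  have hf : (Nat.card ↥L).factorization 3 = 3 := by
    rw [hLc, hcard]
    exact fact_three (m := 2 ^ 35 * 9067520) (by norm_num) (by norm_num)
  obtain ⟨P, hP⟩ := hc
  have hPc : Nat.card ↥(P : Subgroup ↥L) = 27 := by rw [P.card_eq_multiplicity, hf]; rfl
  set Pz : Subgroup (Cz z) := ((P : Subgroup ↥L).map L.subtype).comap (Cz z).subtype with hPz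
  have hLz : L ≤ Cz z := fun x hx =>
    Subgroup.mem_centralizer_singleton_iff.mpr (Subgroup.mem_centralizer_iff.mp hx z (Or.inl rfl)).symm
  have hPmap : Pz.map (Cz z).subtype = (P : Subgroup ↥L).map L.subtype := by
    rw [hPz, Subgroup.map_comap_eq, Subgroup.range_subtype, inf_eq_right]
    exact (Subgroup.map_subtype_le _).trans hLz
  have hPzc : Nat.card ↥Pz = 27 := by
    rw [← Subgroup.card_map_of_injective (f := (Cz z).subtype) (Cz z).subtype_injective, hPmap,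
      Subgroup.card_map_of_injective L.subtype_injective, hPc]
  have hPzX : Pz ≤ X := fun x hx => by
    have h1 : ((x : Cz z) : G) ∈ L := Subgroup.map_subtype_le _ hx
    exact Subgroup.mem_centralizer_singleton_iff.mpr
      (Subtype.ext (Subgroup.mem_centralizer_iff.mp h1 _ (Or.inr rfl)).symm)
  -- the element
  obtain ⟨⟨y, hy⟩, hy1⟩ : ∃ y : ↥Y, y ≠ 1 := by
    by_contra h
    push Not at h
    have : Nat.card ↥Y ≤ 1 := Finite.card_le_one_iff_subsingleton.mpr ⟨fun p q => (h p).trans (h q).symm⟩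
    omega
  have hyne : y ≠ 1 := fun e => hy1 (Subtype.ext e)
  set yC : Cz z := ⟨y, hLz (hY hy)⟩
  have hy3 : yC ^ 3 = 1 := by
    have := pow_card_eq_one' (x := (⟨y, hy⟩ : ↥Y))
    rw [hY3] at this
    exact Subtype.ext (congrArg Subtype.val this :)
  obtain ⟨c, hcc, hce⟩ := hP (show (⟨y, hY hy⟩ : ↥L) ∈ Y.subgroupOf L from hy)
  have hyP : yC ∈ Pz := by
    show y ∈ (P : Subgroup ↥L).map L.subtype
    exact ⟨(c : ↥L), c.2, by rw [show ((c : ↥(P : Subgroup ↥L)) : ↥L) = ⟨y, hY hy⟩ from hce]; rfl⟩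
  have hyc : ∀ x ∈ Pz, x * yC = yC * x := fun x hx => by
    obtain ⟨w, hw, hwe⟩ := hx
    have h := congrArg (fun t : ↥(P : Subgroup ↥L) => ((t : ↥L) : G)) (Subgroup.mem_center_iff.mp hcc ⟨w, hw⟩)
    simp only [Subgroup.coe_mul] at h
    rw [show ((c : ↥(P : Subgroup ↥L)) : ↥L) = ⟨y, hY hy⟩ from hce] at h
    refine Subtype.ext ?_
    show (x : G) * y = y * (x : G)
    rw [← (show (w : G) = (x : G) from hwe)]
    exact h
  -- images
  let φ : Cz z →* Spor.Co1 := D₁.e.toMonoidHom.comp (QuotientGroup.mk' Q)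
  have hφinj : ∀ x ∈ Pz, φ x = 1 → x = 1 := fun x hx h => by
    have hxQ : x ∈ Q := (QuotientGroup.eq_one_iff _).mp (D₁.e.injective (h.trans (map_one _).symm))
    have h27 : orderOf x ∣ 27 := by
      have := orderOf_dvd_natCard (⟨x, hx⟩ : Pz)
      rwa [hPzc, Subgroup.orderOf_mk] at this
    have h2 : orderOf x ∣ 2 ^ 25 := by
      have := orderOf_dvd_natCard (⟨x, hxQ⟩ : Q)
      rw [D₁.card_Q, Subgroup.orderOf_mk] at this
      exact this
    have hg := Nat.dvd_gcd h2 h27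
    norm_num at hg
    exact hg
  have hXm : ∀ x ∈ X, φ x ∈ modImg (ax none) := fun x hx => by
    have h := D₁.map_centralizer hv₁ hnc
    have hm : (QuotientGroup.mk x : Cz z ⧸ Q) ∈ (modImg (ax none)).comap D₁.e.toMonoidHom := by
      rw [← h]; exact Subgroup.mem_map_of_mem _ hx
    exact hm
  set A := Pz.map φ
  have hA : Nat.card ↥A = 27 := by
    rw [← hPzc]
    refine (Nat.card_eq_of_bijective (φ.subgroupMap Pz) ⟨(injective_iff_map_eq_one _).mpr fun x hx =>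
      Subtype.ext (hφinj x.1 x.2 (congrArg Subtype.val hx)), MonoidHom.subgroupMap_surjective _ _⟩).symm
  obtain ⟨H, hHc, hHcen⟩ := exists_P27
  let ι : ↥M24 →* Spor.Co1 := (QuotientGroup.mk' (Subgroup.center ↥Co0)).comp permHom
  have hιinj : Function.Injective ι := by
    rw [← MonoidHom.ker_eq_bot_iff, Subgroup.eq_bot_iff_forall]
    intro σ hσ
    have hm : (ι σ : Spor.Co1) ∈ signImg ⊓ permImg :=
      ⟨by rw [show ι σ = 1 from hσ]; exact one_mem _, ⟨_, ⟨σ, rfl⟩, rfl⟩⟩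
    have hc : permHom σ ∈ Subgroup.center ↥Co0 := (QuotientGroup.eq_one_iff _).1 hσ
    obtain ⟨c, hc', he⟩ := center_le_signSub hc
    have h1 : ∀ x ∈ leechLattice, signedPerm σ.1 ∅ x = signedPerm 1 c x := fun x hx =>
      congrArg (fun g : ↥Co0 => ((g • (⟨x, hx⟩ : ↥leechLattice) : ↥leechLattice) : GolayPt → ℤ)) he
    exact Subtype.ext (signedPerm_inj h1).1
  set B := H.map ι
  have hB : Nat.card ↥B = 27 := by rw [Subgroup.card_map_of_injective hιinj, hHc]
  obtain ⟨m', hm', hAB, hBA⟩ := syl_conj (modImg (ax none)) A B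
    (by rintro _ ⟨x, hx, rfl⟩; exact hXm x (hPzX hx))
    (by rintro _ ⟨σ, -, rfl⟩; exact permImg_le ⟨_, ⟨σ, rfl⟩, rfl⟩)
    (k := 3) (by rw [hA]; rfl) (by rw [hB]; rfl)
    (by rw [modImg_ax_card]; exact fact_three (m := 2 ^ 11 * 9067520) (by norm_num) (by norm_num))
  have hcent : ∀ x ∈ Pz, (∀ w ∈ Pz, x * w = w * x) →
      m' * φ x * m'⁻¹ ∈ Subgroup.zpowers (QuotientGroup.mk p3 : Spor.Co1) := by
    intro x hx hxc
    obtain ⟨σ, hσ, hσe⟩ := hAB _ ⟨x, hx, rfl⟩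
    have hσc : ∀ w ∈ H, σ * w = w * σ := fun w hw => hιinj (by
      obtain ⟨u, hu, hue⟩ := hBA _ ⟨w, hw, rfl⟩
      have e : φ x * φ u = φ u * φ x := by rw [← map_mul, hxc u hu, map_mul]
      have hw' : ι w = m' * φ u * m'⁻¹ := by rw [hue]; group
      rw [map_mul, map_mul, hσe, hw']
      calc m' * φ x * m'⁻¹ * (m' * φ u * m'⁻¹) = m' * (φ x * φ u) * m'⁻¹ := by group
        _ = m' * (φ u * φ x) * m'⁻¹ := by rw [e]
        _ = _ := by group)
    obtain ⟨n, hn⟩ := hHcen σ hσ hσc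
    obtain ⟨τ, hτ, hp⟩ := p3_eq
    have hστ : σ = τ ^ n := Subtype.ext (by rw [SubgroupClass.coe_zpow, hτ]; exact hn.symm)
    refine ⟨n, ?_⟩
    rw [← hσe, hστ, map_zpow, hp]; rfl
  have hy' := hcent yC hyP fun w hw => (hyc w hw).symm
  obtain ⟨m, rfl⟩ := QuotientGroup.mk_surjective m'
  set Y' : Spor.Co1 := (QuotientGroup.mk m : Spor.Co1) * φ yC * (QuotientGroup.mk m)⁻¹
  have hp3 : (QuotientGroup.mk p3 : Spor.Co1) ^ 3 = 1 := by rw [← QuotientGroup.mk_pow, p3_cube]; rfl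
  obtain ⟨i, hi, hie⟩ := mem_pow hp3 hy'
  have hi0 : i ≠ 0 := by
    rintro rfl
    rw [pow_zero, conj_eq_one_iff] at hie
    exact hyne (congrArg Subtype.val (hφinj _ hyP hie))
  have hii : i * i % 3 = 1 := by interval_cases i <;> first | omega | norm_num
  have hei : (twist D₁ m⁻¹).e (QuotientGroup.mk (yC ^ i)) = QuotientGroup.mk p3 := by
    rw [twist_e, QuotientGroup.mk_inv, inv_inv, show D₁.e (QuotientGroup.mk (yC ^ i)) = φ (yC ^ i) from rfl, map_pow,
      ← conj_pow, show (QuotientGroup.mk m : Spor.Co1) * φ yC * (QuotientGroup.mk m)⁻¹ = Y' from rfl, hie, ← pow_mul,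
      ← pow_mod_orderOf, mk_p3_order, hii, pow_one]
  have hzp : Subgroup.zpowers (yC ^ i) = Subgroup.zpowers yC := by
    refine le_antisymm (Subgroup.zpowers_le.mpr (Subgroup.npow_mem_zpowers yC i)) (Subgroup.zpowers_le.mpr ⟨i, ?_⟩)
    show (yC ^ i) ^ (i : ℤ) = yC
    rw [zpow_natCast, ← pow_mul, ← Nat.div_add_mod (i * i) 3, hii, pow_add, pow_mul, hy3, one_pow, one_mul, pow_one]
  refine ⟨twist D₁ m⁻¹, ⟨a, yC ^ i, Pz, by rw [← pow_mul, mul_comm, pow_mul, hy3, one_pow], hei, ?_, ?_, hPzX, hPzc,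
    Pz.pow_mem hyP i, fun x hx => (show Commute x yC from hyc x hx).pow_right i, fun x hx hxc => ?_⟩, rfl, ?_⟩
  · exact (show Commute yC (a : Cz z) from Subgroup.mem_centralizer_singleton_iff.mp (hPzX hyP)).pow_left i
  · rw [twist_psi, ← hv₁, D₁.psi_cg]
    exact (modStab (ax none)).inv_mem (show m ∈ modStab (ax none) from mem_modImg.1 hm')
  · obtain ⟨j, hj, hje⟩ := mem_pow hp3 (hcent x hx hxc)
    rw [hzp]
    have hyc' : QuotientGroup.mk p3 = Y' ^ i := by
      rw [hie, ← pow_mul, ← pow_mod_orderOf (QuotientGroup.mk p3 : Spor.Co1), mk_p3_order, hii, pow_one]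
    rw [hyc', ← pow_mul, conj_pow, mul_left_inj, mul_right_inj, ← map_pow] at hje
    have : x * (yC ^ (i * j))⁻¹ = 1 := hφinj _ (Pz.mul_mem hx (Pz.inv_mem (Pz.pow_mem hyP _)))
      (by rw [map_mul, map_inv, hje, mul_inv_cancel])
    rw [mul_inv_eq_one.mp this]
    exact Subgroup.npow_mem_zpowers _ _
  · haveI : Fact (Nat.Prime 3) := ⟨Nat.prime_three⟩
    have h1 : Subgroup.zpowers ((yC ^ i : Cz z) : G) = Subgroup.zpowers y := by
      have := congrArg (Subgroup.map (Cz z).subtype) hzp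
      rwa [MonoidHom.map_zpowers, MonoidHom.map_zpowers] at this
    rw [h1]
    refine (Subgroup.eq_of_le_of_card_ge (Subgroup.zpowers_le.mpr hy) ?_).symm
    rw [hY3, Nat.card_zpowers, orderOf_eq_prime (show y ^ 3 = 1 from congrArg Subtype.val hy3) hyne]

namespace Thr

variable {D : Data z Q} (S : Thr D)

theorem order_β : orderOf S.β = 3 := by
  haveI : Fact (Nat.Prime 3) := ⟨Nat.prime_three⟩
  refine orderOf_eq_prime S.pow3 fun h => ?_
  have he := S.eβ
  rw [h, QuotientGroup.mk_one, map_one, eq_comm] at he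
  have h2 := mk_p3_order
  rw [he, orderOf_one] at h2
  norm_num at h2

theorem mk_pow_inj {i j : ℕ} (h : (QuotientGroup.mk (S.β ^ i) : Cz z ⧸ Q) = QuotientGroup.mk (S.β ^ j)) :
    S.β ^ i = S.β ^ j := by
  have h2 := congrArg D.e h
  rw [QuotientGroup.mk_pow, QuotientGroup.mk_pow, map_pow, map_pow, S.eβ, pow_eq_pow_iff_modEq, mk_p3_order] at h2
  rw [pow_eq_pow_iff_modEq, S.order_β]
  exact h2

/-- Elements of the centraliser of `z` whose images normalise the group of order three. -/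
theorem exists_lift {g : ↥Co0} {j : ℕ} (hg : g * p3 * g⁻¹ = p3 ^ j) :
    ∃ x : Cz z, D.e (QuotientGroup.mk x) = QuotientGroup.mk g ∧ x * S.β * x⁻¹ = S.β ^ j := by
  obtain ⟨y, hy⟩ := D.e.surjective (QuotientGroup.mk g)
  obtain ⟨x₀, rfl⟩ := QuotientGroup.mk_surjective y
  set K := Subgroup.zpowers S.β ⊔ Q
  have hmk : (QuotientGroup.mk (x₀ * S.β * x₀⁻¹) : Cz z ⧸ Q) = QuotientGroup.mk (S.β ^ j) := by
    apply D.e.injective
    rw [QuotientGroup.mk_mul, QuotientGroup.mk_mul, QuotientGroup.mk_inv, map_mul, map_mul, map_inv, hy, S.eβ,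
      QuotientGroup.mk_pow, map_pow, S.eβ, ← QuotientGroup.mk_inv, ← QuotientGroup.mk_mul, ← QuotientGroup.mk_mul, hg,
      QuotientGroup.mk_pow]
  have hym : x₀ * S.β * x₀⁻¹ ∈ K := by
    have h1 : (x₀ * S.β * x₀⁻¹)⁻¹ * S.β ^ j ∈ Q := QuotientGroup.eq.1 hmk
    have h2 := K.mul_mem (Subgroup.mem_sup_left (Subgroup.npow_mem_zpowers S.β j)) (K.inv_mem (Subgroup.mem_sup_right h1))
    rwa [mul_inv_rev, inv_inv, mul_inv_cancel_left] at h2
  have hord : orderOf (x₀ * S.β * x₀⁻¹) = 3 := by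
    rw [show x₀ * S.β * x₀⁻¹ = MulAut.conj x₀ S.β from rfl, MulEquiv.orderOf_eq, S.order_β]
  have hK : (Nat.card ↥K).factorization 3 = 1 := by
    have h := card_map_mk_mul Q K
    have e : K.map (QuotientGroup.mk' Q) = Subgroup.zpowers (QuotientGroup.mk' Q S.β) := by
      rw [Subgroup.map_sup, MonoidHom.map_zpowers, QuotientGroup.map_mk'_self, sup_bot_eq]
    rw [e, inf_eq_right.mpr (le_sup_right : Q ≤ K), Nat.card_zpowers, D.card_Q,
      show orderOf (QuotientGroup.mk' Q S.β) = 3 by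
        rw [← D.e.orderOf_eq]; show orderOf (D.e (QuotientGroup.mk S.β)) = 3
        rw [S.eβ, mk_p3_order]] at h
    rw [← h]
    exact fact_three (m := 2 ^ 25) (by norm_num) (by norm_num)
  obtain ⟨k, hk, hkc, -⟩ := syl_conj K (Subgroup.zpowers (x₀ * S.β * x₀⁻¹)) (Subgroup.zpowers S.β)
    (Subgroup.zpowers_le.mpr hym) le_sup_left (k := 1) (by rw [Nat.card_zpowers, hord, pow_one])
    (by rw [Nat.card_zpowers, S.order_β, pow_one]) hK
  rw [← SetLike.mem_coe, Subgroup.mul_normal, Set.mem_mul] at hk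
  obtain ⟨b, hb, n, hn, rfl⟩ := hk
  obtain ⟨l, -, hl⟩ := mem_pow S.pow3 (hkc _ (Subgroup.mem_zpowers _))
  obtain ⟨i, -, rfl⟩ := mem_pow S.pow3 hb
  have hval : n * x₀ * S.β * (n * x₀)⁻¹ = S.β ^ l := by
    have hc : (S.β ^ i)⁻¹ * S.β ^ l * S.β ^ i = S.β ^ l := by
      rw [mul_assoc, (Commute.pow_pow_self S.β l i).eq, inv_mul_cancel_left]
    calc n * x₀ * S.β * (n * x₀)⁻¹ = (S.β ^ i)⁻¹ * (S.β ^ i * n * (x₀ * S.β * x₀⁻¹) * (S.β ^ i * n)⁻¹) * S.β ^ i := by
          group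
      _ = _ := by rw [hl, hc]
  have hnx : (QuotientGroup.mk (n * x₀) : Cz z ⧸ Q) = QuotientGroup.mk x₀ := by
    rw [QuotientGroup.mk_mul, (QuotientGroup.eq_one_iff n).mpr hn, one_mul]
  refine ⟨n * x₀, by rw [hnx, hy], hval.trans (S.mk_pow_inj ?_)⟩
  rw [← hval, ← hmk]
  simp only [QuotientGroup.mk_mul, QuotientGroup.mk_inv, (QuotientGroup.eq_one_iff n).mpr hn, one_mul]

theorem image_comm {x : Cz z} {g : ↥Co0} (hg : D.e (QuotientGroup.mk x) = QuotientGroup.mk g)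
    (hx : x * S.β = S.β * x) : g ∈ CC := by
  have h : (QuotientGroup.mk (g * p3 * g⁻¹) : Spor.Co1) = QuotientGroup.mk p3 := by
    rw [QuotientGroup.mk_mul, QuotientGroup.mk_mul, QuotientGroup.mk_inv, ← hg, ← S.eβ, ← map_inv, ← map_mul, ← map_mul,
      ← QuotientGroup.mk_inv, ← QuotientGroup.mk_mul, ← QuotientGroup.mk_mul, hx, mul_inv_cancel_right]
  refine mem_CC.mpr (mul_inv_eq_iff_eq_mul.mp ?_)
  rcases center_eq (QuotientGroup.eq.1 h) with e | e
  · exact inv_mul_eq_one.mp e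
  · exfalso
    rw [inv_mul_eq_iff_eq_mul] at e
    have h3 : (g * p3 * g⁻¹) ^ 3 = 1 := by rw [conj_pow, p3_cube, mul_one, mul_inv_cancel]
    have hc : Commute (g * p3 * g⁻¹) negAut := Subgroup.mem_center_iff.mp negAut_central _
    have := congrArg (fun t => t ^ 3) e
    rw [hc.mul_pow, h3, one_mul, p3_cube, pow_succ, pow_two,
      show negAut * negAut = 1 from aut_ext fun v => by rw [mul_smul, negAut_apply, negAut_apply, neg_neg, one_smul],
      one_mul] at this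
    exact negAut_ne_one this.symm

theorem fix_iff {q : Q} {v : ↥leechLattice} (h : D.ψ v = QuotientGroup.mk q) :
    S.β * (q : Cz z) = (q : Cz z) * S.β ↔ v ∈ P := by
  have h1 := D.iso.2.2.2 S.β p3 S.eβ.symm v q h
  set q' : Q := ⟨S.β * (q : Cz z) * S.β⁻¹, (inferInstance : Q.Normal).conj_mem _ q.2 _⟩
  constructor
  · intro hc
    refine class_mem (D.psi_cg.mp ?_)
    rw [h1, h]
    exact congrArg QuotientGroup.mk (Subtype.ext (mul_inv_eq_iff_eq_mul.mpr hc))
  · intro hv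
    have h2 : (QuotientGroup.mk q' : Q ⧸ Subgroup.center Q) = QuotientGroup.mk q :=
      h1.symm.trans ((D.psi_cg.mpr (p3_fix hv)).trans h)
    rcases D.mk_eq_mk.mp h2 with e | e
    · exact mul_inv_eq_iff_eq_mul.mp (congrArg Subtype.val e).symm
    · exfalso
      set w : Cz z := (D.zq : Cz z)
      have hw : ∀ x : Cz z, x * w = w * x := fun x => Subgroup.mem_center_iff.mp zc_central x
      have hw2 : w * w = 1 := congrArg Subtype.val D.ext2.zz
      have hstep : S.β * (q : Cz z) * S.β⁻¹ = (q : Cz z) * w := by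
        have e' : (q : Cz z) = S.β * (q : Cz z) * S.β⁻¹ * w := congrArg Subtype.val e
        conv_rhs => rw [e', mul_assoc, hw2, mul_one]
      have hconjw : ∀ x : Cz z, x * w * x⁻¹ = w := fun x => by rw [hw, mul_inv_cancel_right]
      have h4 : S.β * ((q : Cz z) * w) * S.β⁻¹ = q := by
        rw [show S.β * ((q : Cz z) * w) * S.β⁻¹ = S.β * (q : Cz z) * S.β⁻¹ * (S.β * w * S.β⁻¹) by group, hconjw, hstep,
          mul_assoc, hw2, mul_one]
      have h3 : S.β ^ 3 * (q : Cz z) * (S.β ^ 3)⁻¹ = (q : Cz z) * w := by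
        calc S.β ^ 3 * (q : Cz z) * (S.β ^ 3)⁻¹
            = S.β * (S.β * (S.β * (q : Cz z) * S.β⁻¹) * S.β⁻¹) * S.β⁻¹ := by
              rw [pow_succ, pow_two]; group
          _ = (q : Cz z) * w := by rw [hstep, h4, hstep]
      rw [S.pow3, one_mul, inv_one, mul_one, eq_comm, mul_eq_left] at h3
      exact D.ext2.ne (Subtype.ext h3)

/-- The fixed points. -/
def R : Subgroup (Cz z) := Q ⊓ Subgroup.centralizer {S.β}

theorem mem_R {x : Cz z} : x ∈ S.R ↔ x ∈ Q ∧ S.β * x = x * S.β :=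
  and_congr_right fun _ => Subgroup.mem_centralizer_singleton_iff.trans eq_comm

theorem zq_mem_R : (D.zq : Cz z) ∈ S.R :=
  S.mem_R.mpr ⟨D.zq.2, Subgroup.mem_center_iff.mp zc_central S.β⟩

theorem rep_mem_R {v : ↥leechLattice} (hv : v ∈ P) : (D.rep v : Cz z) ∈ S.R :=
  S.mem_R.mpr ⟨(D.rep v).2, (S.fix_iff (D.mk_rep v).symm).mpr hv⟩

theorem card_R : Nat.card ↥S.R = 8192 := by
  let f : V4 × Bool → ↥S.R := fun p =>
    ⟨(D.rep (sb p.1) : Cz z) * cond p.2 (D.zq : Cz z) 1, S.R.mul_mem (S.rep_mem_R (sb_mem_P p.1))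
      (by cases p.2
          · exact one_mem _
          · exact S.zq_mem_R)⟩
  have hf : Function.Bijective f := by
    refine ⟨?_, ?_⟩
    · rintro ⟨m, b⟩ ⟨n, c⟩ h
      have h' : D.rep (sb m) * cond b D.zq 1 = D.rep (sb n) * cond c D.zq 1 := by
        have hv := congrArg Subtype.val h
        cases b <;> cases c <;> exact Subtype.ext hv
      have hz : ∀ x : Bool, (QuotientGroup.mk (cond x D.zq 1) : Q ⧸ Subgroup.center Q) = 1 := fun x => by
        rw [QuotientGroup.eq_one_iff]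
        cases x
        · exact one_mem _
        · exact (D.ext2.center_iff _).mpr (Or.inr rfl)
      have hm := congrArg (fun q : Q => (QuotientGroup.mk q : Q ⧸ Subgroup.center Q)) h'
      simp only [QuotientGroup.mk_mul, hz, mul_one, D.mk_rep] at hm
      obtain rfl : m = n := sb_inj (D.psi_cg.mp hm)
      have hbc := mul_left_cancel h'
      cases b <;> cases c
      · rfl
      · exact absurd hbc.symm D.ext2.ne
      · exact absurd hbc D.ext2.ne
      · rfl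
    · rintro ⟨x, hx⟩
      obtain ⟨hxQ, hxc⟩ := S.mem_R.mp hx
      obtain ⟨v, hv⟩ := D.iso.2.1 (QuotientGroup.mk (⟨x, hxQ⟩ : Q))
      obtain ⟨m, hcg⟩ := mem_P.mp ((S.fix_iff hv).mp hxc)
      have h2 := (D.mk_rep (sb m)).trans ((D.psi_cg.mpr hcg).symm.trans hv)
      rcases D.mk_eq_mk.mp h2 with e | e
      · exact ⟨(m, false), Subtype.ext (by
          show (D.rep (sb m) : Cz z) * 1 = x
          rw [mul_one]; exact (congrArg Subtype.val e).symm)⟩
      · exact ⟨(m, true), Subtype.ext (congrArg Subtype.val e).symm⟩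
  rw [← Nat.card_eq_of_bijective f hf, Nat.card_prod, Fi24Q.card_V, Nat.card_eq_fintype_card (α := Bool), Fintype.card_bool]

theorem exists_noncomm {q : Q} {v : ↥leechLattice} (hv : D.ψ v = QuotientGroup.mk q) (hvP : v ∈ P)
    (h0 : ¬ Cg v 0) : ∃ r : Q, (r : Cz z) ∈ S.R ∧ q * r ≠ r * q := by
  obtain ⟨m, hcg⟩ := mem_P.mp hvP
  obtain ⟨j, hj, hip⟩ := sub_ip (Fi24Q.cdV_lt m) (fun e => h0 (by rw [sb, e, sub_zero'] at hcg; exact hcg))
  obtain ⟨u, hu⟩ := ev_sb hj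
  refine ⟨D.rep (ev' j), S.rep_mem_R (hu ▸ sb_mem_P u), ?_⟩
  rw [Ne, Seven.Sev.comm_ip hv (D.mk_rep _).symm, ip_cg hcg]
  show ¬ ip (sub _) _ = 0
  rw [hip]; exact one_ne_zero

theorem a_facts : IsConj z ((S.a : Cz z) : G) ∧ ((S.a : Cz z) : G) ≠ z := D.conj_of_norm64 ax_norm S.vec

theorem a_nc : S.a ∉ Subgroup.center ↥Q :=
  D.not_center S.vec (Data.ne_zero_of_norm ax_norm (by norm_num)) (by rw [ax_norm])

/-- An element centralising the marked conjugate and inverting the element of order three. -/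
theorem exists_invert : ∃ x : Cz z, x * S.β * x⁻¹ = S.β ^ 2 ∧
    x ∈ Subgroup.centralizer ({(S.a : Cz z)} : Set (Cz z)) := by
  obtain ⟨σ, hσ, hinv, -⟩ := exists_inverter
  obtain ⟨τ, hτ, hp⟩ := p3_eq
  have hinv2 : r3A⁻¹ = r3A ^ 2 := inv_eq_of_mul_eq_one_right (by rw [← pow_succ']; exact cube3)
  have hg : permHom ⟨σ, hσ⟩ * p3 * (permHom ⟨σ, hσ⟩)⁻¹ = p3 ^ 2 := by
    rw [hp]
    refine Seven.Sev.perm_rel (Subtype.ext ?_)
    simp only [Subgroup.coe_mul, Subgroup.coe_inv, SubgroupClass.coe_pow, hτ]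
    rw [hinv, hinv2]
  obtain ⟨x, hxe, hxc⟩ := S.exists_lift hg
  have hfix : Cg (permHom ⟨σ, hσ⟩ • ax none) (ax none) := by
    have h : permHom ⟨σ, hσ⟩ ∈ modStab (ax none) := by rw [modStab_ax]; exact monoAut_keeps hσ CW_empty
    exact h
  have h1 := D.iso.2.2.2 x _ hxe.symm (ax none) S.a S.vec
  rw [D.psi_cg.mpr hfix, S.vec] at h1
  rcases D.mk_eq_mk.mp h1 with e | e
  · exact ⟨x, hxc, Subgroup.mem_centralizer_singleton_iff.mpr (mul_inv_eq_iff_eq_mul.mp (congrArg Subtype.val e))⟩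
  · obtain ⟨r, hr, hre⟩ := S.exists_noncomm S.vec (class_mem p3_ax)
      (not_cg_zero (Data.ne_zero_of_norm ax_norm (by norm_num)) (by rw [ax_norm]))
    refine ⟨(r : Cz z) * x, ?_, ?_⟩
    · have hcomm : Commute (r : Cz z) (S.β ^ 2) := Commute.pow_right (S.mem_R.mp hr).2.symm 2
      calc (r : Cz z) * x * S.β * ((r : Cz z) * x)⁻¹ = (r : Cz z) * (x * S.β * x⁻¹) * (r : Cz z)⁻¹ := by group
        _ = _ := by rw [hxc, hcomm.eq, mul_inv_cancel_right]
    · have hflip : r * S.a * r⁻¹ = S.a * D.zq := by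
        rcases D.ext2.comm_cases r S.a with e' | e'
        · exact absurd (commutatorElement_eq_one_iff_mul_comm.mp e').symm hre
        · rw [commutatorElement_def] at e'
          calc r * S.a * r⁻¹ = r * S.a * r⁻¹ * S.a⁻¹ * S.a := by group
            _ = D.zq * S.a := by rw [e']
            _ = S.a * D.zq := (D.ext2.z_comm S.a).eq.symm
      have hflip' : (r : Cz z) * (S.a : Cz z) * (r : Cz z)⁻¹ = (S.a : Cz z) * (D.zq : Cz z) := congrArg Subtype.val hflip
      have e' : x * (S.a : Cz z) * x⁻¹ = (S.a : Cz z) * (D.zq : Cz z) := congrArg Subtype.val e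
      have hzr : (r : Cz z) * (D.zq : Cz z) * (r : Cz z)⁻¹ = D.zq := by
        rw [show (r : Cz z) * (D.zq : Cz z) = (D.zq : Cz z) * r from Subgroup.mem_center_iff.mp zc_central _,
          mul_inv_cancel_right]
      refine Subgroup.mem_centralizer_singleton_iff.mpr (mul_inv_eq_iff_eq_mul.mp ?_)
      calc (r : Cz z) * x * (S.a : Cz z) * ((r : Cz z) * x)⁻¹
          = (r : Cz z) * (x * (S.a : Cz z) * x⁻¹) * (r : Cz z)⁻¹ := by group
        _ = ((r : Cz z) * (S.a : Cz z) * (r : Cz z)⁻¹) * ((r : Cz z) * (D.zq : Cz z) * (r : Cz z)⁻¹) := by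
            rw [e']; group
        _ = _ := by
            rw [hflip', hzr, mul_assoc, show (D.zq : Cz z) * (D.zq : Cz z) = 1 from congrArg Subtype.val D.ext2.zz,
              mul_one]

/-- Fusion of `z` with the marked conjugate inside the centraliser of the element of order three. -/
theorem exists_fuse : ∃ n : G, n * (S.β : G) = (S.β : G) * n ∧ n * z * n⁻¹ = ((S.a : Cz z) : G) := by
  obtain ⟨g, hg⟩ := isConj_iff.mp S.a_facts.1
  obtain ⟨y, hy⟩ := inverse_mem D hg S.a_facts.2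
  have hyconj : IsConj z ((y : Cz z) : G) := isConj_iff.mpr ⟨g⁻¹, by rw [hy]; group⟩
  have hyne : ((y : Cz z) : G) ≠ z := fun e => S.a_facts.2 (by
    rw [← hg]
    calc g * z * g⁻¹ = g * (g⁻¹ * z * g) * g⁻¹ := by rw [← hy, e]
      _ = z := by group)
  obtain ⟨v, hn, hv⟩ := D.norm_of_conj hyconj hyne
  obtain ⟨c, hc⟩ := D.conj_of_norm hv S.vec (hn.trans ax_norm.symm) (Or.inr hn)
  obtain ⟨n₀, hn₀⟩ : ∃ n : G, n = (c : G) * g⁻¹ := ⟨_, rfl⟩
  have hn₀z : n₀ * z * n₀⁻¹ = ((S.a : Cz z) : G) := by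
    rw [hn₀, ← congrArg Subtype.val hc]
    show _ = (c : G) * ((y : Cz z) : G) * (c : G)⁻¹
    rw [hy]; group
  have hn₀a : n₀ * ((S.a : Cz z) : G) * n₀⁻¹ = z := by
    have hcz : (c : G) * z = z * (c : G) := Subgroup.mem_centralizer_singleton_iff.mp c.2
    calc n₀ * ((S.a : Cz z) : G) * n₀⁻¹ = (c : G) * z * (c : G)⁻¹ := by rw [hn₀, ← hg]; group
      _ = _ := by rw [hcz, mul_inv_cancel_right]
  set X : Subgroup (Cz z) := Subgroup.centralizer ({(S.a : Cz z)} : Set (Cz z))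
  have hza : ∀ x ∈ X, (x : G) * z = z * (x : G) ∧ (x : G) * ((S.a : Cz z) : G) = ((S.a : Cz z) : G) * (x : G) :=
    fun x hx => ⟨Subgroup.mem_centralizer_singleton_iff.mp x.2,
      congrArg Subtype.val (Subgroup.mem_centralizer_singleton_iff.mp hx)⟩
  have hconj : ∀ (x u : G), x * u = u * x → (n₀ * x * n₀⁻¹) * (n₀ * u * n₀⁻¹) = (n₀ * u * n₀⁻¹) * (n₀ * x * n₀⁻¹) :=
    fun x u h => by
      calc n₀ * x * n₀⁻¹ * (n₀ * u * n₀⁻¹) = n₀ * (x * u) * n₀⁻¹ := by group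
        _ = n₀ * (u * x) * n₀⁻¹ := by rw [h]
        _ = _ := by group
  let P' : Subgroup (Cz z) := ((S.P₀.map (Cz z).subtype).map (MulAut.conj n₀).toMonoidHom).comap (Cz z).subtype
  have hP' : ∀ x ∈ S.P₀, n₀ * (x : G) * n₀⁻¹ ∈ Cz z := fun x hx => by
    refine Subgroup.mem_centralizer_singleton_iff.mpr ?_
    have := hconj _ _ (hza x (S.syl_le hx)).2
    rwa [hn₀a] at this
  have hP'mem : ∀ x (hx : x ∈ S.P₀), (⟨_, hP' x hx⟩ : Cz z) ∈ P' := fun x hx => ⟨(x : G), ⟨x, hx, rfl⟩, rfl⟩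
  have hP'X : P' ≤ X := by
    rintro w ⟨_, ⟨x, hx, rfl⟩, hw⟩
    refine Subgroup.mem_centralizer_singleton_iff.mpr (Subtype.ext ?_)
    have := hconj _ _ (hza x (S.syl_le hx)).1
    rw [hn₀z] at this
    rw [Subgroup.coe_mul, Subgroup.coe_mul, ← (show n₀ * (x : G) * n₀⁻¹ = (w : G) from hw)]
    exact this
  have hP'c : Nat.card ↥P' = 3 ^ 3 := by
    rw [← Subgroup.card_map_of_injective (f := (Cz z).subtype) (Cz z).subtype_injective]
    show Nat.card ↥((((S.P₀.map (Cz z).subtype).map (MulAut.conj n₀).toMonoidHom).comap (Cz z).subtype).map _) = _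
    rw [Subgroup.map_comap_eq, Subgroup.range_subtype, inf_eq_right.mpr,
      Subgroup.card_map_of_injective (MulAut.conj n₀).injective, Subgroup.card_map_of_injective (Cz z).subtype_injective,
      S.syl_card]
    · rfl
    · rintro _ ⟨_, ⟨x, hx, rfl⟩, rfl⟩; exact hP' x hx
  obtain ⟨d, hd, hd1, hd2⟩ := syl_conj X P' S.P₀ hP'X S.syl_le (k := 3) hP'c (by rw [S.syl_card]; rfl) (by
    rw [D.card_centralizer S.vec S.a_nc, modImg_ax_card]
    exact fact_three (m := 2 ^ 35 * 9067520) (by norm_num) (by norm_num))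
  set β' : Cz z := d * ⟨_, hP' S.β S.syl_mem⟩ * d⁻¹
  have hβ'P : β' ∈ S.P₀ := hd1 _ (hP'mem _ S.syl_mem)
  have hβ'c : ∀ w ∈ S.P₀, β' * w = w * β' := by
    intro w hw
    obtain ⟨_, ⟨x, hx, rfl⟩, hxe⟩ := hd2 w hw
    have hxe' : n₀ * (x : G) * n₀⁻¹ = ((d⁻¹ * w * d : Cz z) : G) := hxe
    have h := hconj _ _ (congrArg Subtype.val (S.syl_comm x hx).symm : (S.β : G) * (x : G) = (x : G) * (S.β : G))
    have e : (d⁻¹ * w * d : Cz z) = ⟨_, hP' x hx⟩ := Subtype.ext hxe'.symm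
    have hw' : w = d * ⟨_, hP' x hx⟩ * d⁻¹ := by rw [← e]; group
    rw [hw']
    have h' : (⟨_, hP' S.β S.syl_mem⟩ : Cz z) * ⟨_, hP' x hx⟩ = (⟨_, hP' x hx⟩ : Cz z) * ⟨_, hP' S.β S.syl_mem⟩ :=
      Subtype.ext h
    calc β' * (d * ⟨_, hP' x hx⟩ * d⁻¹)
        = d * ((⟨_, hP' S.β S.syl_mem⟩ : Cz z) * ⟨_, hP' x hx⟩) * d⁻¹ := by simp only [β']; group
      _ = d * ((⟨_, hP' x hx⟩ : Cz z) * ⟨_, hP' S.β S.syl_mem⟩) * d⁻¹ := by rw [h']
      _ = _ := by simp only [β']; group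
  obtain ⟨j, hj, hje⟩ := mem_pow S.pow3 (S.syl_center β' hβ'P hβ'c)
  obtain ⟨n₁, hn₁⟩ : ∃ n : G, n = (d : G) * n₀ := ⟨_, rfl⟩
  have hn₁β : n₁ * (S.β : G) * n₁⁻¹ = (S.β : G) ^ j := by
    rw [← SubgroupClass.coe_pow, ← hje]
    show _ = (d : G) * (n₀ * (S.β : G) * n₀⁻¹) * (d : G)⁻¹
    rw [hn₁]; group
  have hn₁z : n₁ * z * n₁⁻¹ = ((S.a : Cz z) : G) := by
    calc n₁ * z * n₁⁻¹ = (d : G) * (n₀ * z * n₀⁻¹) * (d : G)⁻¹ := by rw [hn₁]; group
      _ = _ := by rw [hn₀z, (hza d hd).2, mul_inv_cancel_right]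
  rcases (show j = 0 ∨ j = 1 ∨ j = 2 by omega) with rfl | rfl | rfl
  · exfalso
    rw [pow_zero, conj_eq_one_iff] at hn₁β
    have := S.order_β
    rw [show S.β = 1 from Subtype.ext hn₁β, orderOf_one] at this
    norm_num at this
  · rw [pow_one] at hn₁β
    exact ⟨n₁, mul_inv_eq_iff_eq_mul.mp hn₁β, hn₁z⟩
  · obtain ⟨x, hxb, hxa⟩ := S.exists_invert
    have hxG : (x : G) * (S.β : G) * (x : G)⁻¹ = (S.β : G) ^ 2 := by
      rw [← SubgroupClass.coe_pow, ← hxb]; rfl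
    have hb3 : (S.β : G) ^ 3 = 1 := by rw [← SubgroupClass.coe_pow, S.pow3]; rfl
    refine ⟨(x : G) * n₁, mul_inv_eq_iff_eq_mul.mp ?_, ?_⟩
    · calc (x : G) * n₁ * (S.β : G) * ((x : G) * n₁)⁻¹ = (x : G) * (n₁ * (S.β : G) * n₁⁻¹) * (x : G)⁻¹ := by group
        _ = ((S.β : G) ^ 2) ^ 2 := by rw [hn₁β, ← conj_pow, hxG]
        _ = _ := by rw [← pow_mul, pow_succ, hb3, one_mul]
    · calc (x : G) * n₁ * z * ((x : G) * n₁)⁻¹ = (x : G) * (n₁ * z * n₁⁻¹) * (x : G)⁻¹ := by group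
        _ = _ := by rw [hn₁z, (hza x hxa).2, mul_inv_cancel_right]

end Thr

end CfsgLib.MonsterQ.Three
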